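import Cfsg.Agent.Lib.Leech.Triangle.MatEl
import Cfsg.Agent.Lib.Leech.Aut.Act

/-! A faster form of the check of an integer matrix: the images are computed once. -/

set_option autoImplicit false

namespace CfsgLib.SuzSection

open Cfsg CfsgLib CfsgLib.Leech CfsgLib.Leech.Stab CfsgLib.Leech.Triangle
open CfsgLib.Leech.Orbits (vecOf)

/-- Continue with a list whose entries have been evaluated. -/
def withL : List ℤ → (List ℤ → Bool) → Bool
  | [], k => k []
  | Int.ofNat 0 :: l, k => withL l fun r => k (Int.ofNat 0 :: r)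
  | Int.ofNat (n + 1) :: l, k => withL l fun r => k (Int.ofNat (n + 1) :: r)
  | Int.negSucc 0 :: l, k => withL l fun r => k (Int.negSucc 0 :: r)
  | Int.negSucc (n + 1) :: l, k => withL l fun r => k (Int.negSucc (n + 1) :: r)

theorem withL_eq : ∀ (l : List ℤ) (k : List ℤ → Bool), withL l k = k l
  | [], _ => rfl
  | Int.ofNat 0 :: l, k => by rw [withL, withL_eq l]
  | Int.ofNat (n + 1) :: l, k => by rw [withL, withL_eq l]
  | Int.negSucc 0 :: l, k => by rw [withL, withL_eq l]
  | Int.negSucc (n + 1) :: l, k => by rw [withL, withL_eq l]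

/-- The membership test on a list of coordinates. -/
def leechL (M : List ℤ) : Bool :=
  (List.range 24).all (fun i => M.getD i 0 % 2 == M.getD 23 0 % 2) &&
    Golay.memb (Golay.bitsOf (fun i => M.getD i 0 / 2 % 2 == 1) 24) &&
      (((List.range 24).map fun i => M.getD i 0).sum % 8 == 4 * M.getD 23 0 % 8)

theorem bitsOf_congr {f g : ℕ → Bool} : ∀ {k}, (∀ i < k, f i = g i) → Golay.bitsOf f k = Golay.bitsOf g k
  | 0, _ => rfl
  | k + 1, h => by
    rw [Golay.bitsOf, Golay.bitsOf, bitsOf_congr (k := k) fun i hi => h i (by omega), h k (by omega)]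

theorem leechB_of_list {M : List ℤ} (h : leechL M = true) : leechB (vecOf M) = true := by
  have hv : ∀ i < 24, vecOf M (Golay.pt i) = M.getD i 0 := fun i hi => by
    rw [vecOf, Golay.bit_pt hi]
  have hn : vecOf M none = M.getD 23 0 := rfl
  simp only [leechL, Bool.and_eq_true, List.all_eq_true, List.mem_range] at h
  simp only [leechB, maskOf, Bool.and_eq_true, List.all_eq_true, List.mem_range]
  refine ⟨⟨fun i hi => by rw [hv i hi, hn]; exact h.1.1 i hi, ?_⟩, ?_⟩
  · rw [bitsOf_congr fun i hi => by rw [hv i hi]]
    exact h.1.2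
  · rw [← sum_range_pt, hn, List.map_congr_left fun i hi => hv i (List.mem_range.1 hi)]
    exact h.2

/-- The fast form of the second part of the check. -/
def fastMaps (T : List (List ℤ)) : Bool :=
  (List.range 59).all fun k => withL (listOf (leechGen k)) fun g =>
    withL ((List.range 24).map fun i => dotZ g (T.getD i [])) fun L =>
      L.all (fun z => z % 8 == 0) && withL (L.map fun z => z / 8) leechL

theorem mapsB_of_fast {T : List (List ℤ)} (h : fastMaps T = true) : mapsB T = true := by
  simp only [fastMaps, withL_eq, List.all_map, List.map_map, Bool.and_eq_true, List.all_eq_true,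
    List.mem_range, Function.comp_def] at h
  simp only [mapsB, Bool.and_eq_true, List.all_eq_true, List.mem_range]
  exact fun k hk => ⟨(h k hk).1, leechB_of_list (h k hk).2⟩

/-- The fast check. -/
def fastEl (A T : List (List ℤ)) : Bool :=
  transB A T && orthB A && orthB T && fastMaps A && fastMaps T

theorem elB_of_fast {A T : List (List ℤ)} (h : fastEl A T = true) : elB A T = true := by
  simp only [fastEl, Bool.and_eq_true] at h
  obtain ⟨⟨⟨⟨h1, h2⟩, h3⟩, h4⟩, h5⟩ := h
  simp [elB, h1, h2, h3, mapsB_of_fast h4, mapsB_of_fast h5]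

/-- The columns of a product, computed in natural numbers only. -/
def mulN (A B : List ℕ) : List ℕ := B.map (Aut.stepC A)

theorem valid_mulN {g h : Co0} {A B : List ℕ} (hg : Valid g A) (hh : Valid h B) :
    Valid (g * h) (mulN A B) := by
  obtain ⟨hlen, hB⟩ := Aut.valid_iff.1 hh
  refine Aut.valid_iff.2 ⟨by simp [mulN, hlen], fun i hi => ?_⟩
  have hi' : i < B.length := by simpa [mulN] using hi
  simp only [mulN, List.getElem_map, mul_smul]
  exact Aut.follows_stepC hg _ _ (by rw [sqNorm_smul]; simp [e8L, sqNorm_e8]) (hB i hi')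

end CfsgLib.SuzSection
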