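import Cfsg.Agent.Lib.SuzSection.Data
import Cfsg.Agent.Lib.SuzSection.Check
import Cfsg.Agent.Lib.Leech.Triangle.MatEl
import Cfsg.Agent.Lib.Leech.Aut.Act
import Cfsg.Agent.Lib.Leech.Order

/-! The elements of Co0 used for the section of Suzuki type, as checked matrices. -/

set_option autoImplicit false

namespace CfsgLib.SuzSection

open Cfsg CfsgLib CfsgLib.Leech CfsgLib.Leech.Stab CfsgLib.Leech.Aut CfsgLib.Leech.Triangle

/-- Check of one element. -/
def okEl (i : ℕ) : Bool :=
  (fun A T => fastEl A T && colsB A && colsB T) (mats.getD i []) (matsT.getD i [])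

theorem els_ok0 : ([0, 1, 2].all okEl) = true := by decide +kernel
theorem els_ok1 : ([3, 4, 5].all okEl) = true := by decide +kernel
theorem els_ok2 : ([6, 7, 8].all okEl) = true := by decide +kernel
theorem els_ok3 : ([9, 10, 11, 12].all okEl) = true := by decide +kernel

theorem els_ok : ((List.range 13).all okEl) = true := by
  rw [show List.range 13 = [0, 1, 2] ++ [3, 4, 5] ++ [6, 7, 8] ++ [9, 10, 11, 12] from rfl,
    List.all_append, List.all_append, List.all_append, els_ok0, els_ok1, els_ok2, els_ok3]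
  rfl

/-- The packed columns of the `i`-th element. -/
def cl (i : ℕ) : List ℕ := colLit.getD i []

/-- The packed columns of its inverse. -/
def clI (i : ℕ) : List ℕ := colTLit.getD i []

theorem lit_ok : ((List.range 13).all fun i =>
    eqC (cl i) (colsOf (mats.getD i [])) && eqC (clI i) (colsOf (matsT.getD i []))) = true := by decide +kernel

theorem cl_eq (i : Fin 13) : cl i = colsOf (mats.getD i []) ∧ clI i = colsOf (matsT.getD i []) := by
  have h := List.all_eq_true.1 lit_ok i.1 (List.mem_range.2 i.2)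
  rw [Bool.and_eq_true] at h
  exact ⟨eqC_iff.1 h.1, eqC_iff.1 h.2⟩

theorem negLit_ok : eqC negLit ((List.range 24).map fun j => packL (lin (listOf (-(e8 (Golay.pt j)))))) = true := by
  decide +kernel

theorem valid_neg : Valid negEl negLit := by
  rw [eqC_iff.1 negLit_ok]
  refine valid_iff.2 ⟨by simp, fun i h => ?_⟩
  simp only [List.getElem_map, List.getElem_range, coe_negEl_smul]
  exact rep_packL (by rw [sqNorm_neg]; exact (sqNorm_e8 _).le.trans (by norm_num))

theorem okEl_spec (i : Fin 13) : elB (mats.getD i []) (matsT.getD i []) = true ∧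
    colsB (mats.getD i []) = true ∧ colsB (matsT.getD i []) = true := by
  have h := List.all_eq_true.1 els_ok i.1 (List.mem_range.2 i.2)
  simp only [okEl, Bool.and_eq_true] at h
  exact ⟨elB_of_fast h.1.1, h.1.2, h.2⟩

/-- The `i`-th element. -/
def el (i : Fin 13) : Co0 := matEl (okEl_spec i).1

theorem valid_el (i : Fin 13) : Valid (el i) (cl i) := (cl_eq i).1 ▸ matEl_valid _ (okEl_spec i).2.1

theorem inv_checks : ((List.range 13).all fun i => eqC (mulN (cl i) (clI i)) idC) = true := by decide +kernel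

theorem valid_el_inv (i : Fin 13) : Valid (el i)⁻¹ (clI i) := by
  have hv : Valid (matEl (elB_symm (okEl_spec i).1)) (clI i) :=
    (cl_eq i).2 ▸ matEl_valid _ (okEl_spec i).2.2
  have h : el i * matEl (elB_symm (okEl_spec i).1) = 1 :=
    eq_of_eqC (valid_mulN (valid_el i) hv) valid_one (List.all_eq_true.1 inv_checks i.1 (List.mem_range.2 i.2))
  rw [inv_eq_of_mul_eq_one_right h]
  exact hv

/-- The element of order three. -/
def wEl : Co0 := el 0

theorem valid_w : Valid wEl (cl 0) := valid_el 0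

theorem w_checks : eqC (powC (cl 0) 3) idC = true ∧ eqC (cl 0) idC = false ∧
    eqC (cl 0) negLit = false ∧ eqC (powC (cl 0) 2) idC = false ∧ eqC (powC (cl 0) 2) negLit = false := by
  decide +kernel

theorem wEl_pow_three : wEl ^ 3 = 1 := eq_of_eqC (valid_pow valid_w 3) valid_one w_checks.1

theorem orderOf_wEl : orderOf wEl = 3 :=
  orderOf_eq_prime (hp := ⟨by norm_num⟩) wEl_pow_three (ne_of_eqC valid_w valid_one w_checks.2.1)

/-- The group of order three. -/
def aSub : Subgroup Co0 := Subgroup.zpowers wEl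

theorem card_aSub : Nat.card aSub = 3 := by rw [aSub, Nat.card_zpowers, orderOf_wEl]

/-- The centraliser. -/
abbrev CW : Subgroup Co0 := Subgroup.centralizer (aSub : Set Co0)

theorem mem_CW {g : Co0} : g ∈ CW ↔ wEl * g = g * wEl := by
  refine ⟨fun h => h wEl (Subgroup.mem_zpowers wEl), fun h y hy => ?_⟩
  obtain ⟨n, rfl⟩ := Subgroup.mem_zpowers_iff.1 hy
  exact (Commute.zpow_left h n).eq

theorem comm_checks : ([1, 2, 3, 4, 5, 6, 7, 10, 11, 12].all fun i =>
    eqC (mulN (cl 0) (cl i)) (mulN (cl i) (cl 0))) = true := by decide +kernel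

theorem el_mem_CW {i : Fin 13} (hi : (i : ℕ) ∈ [1, 2, 3, 4, 5, 6, 7, 10, 11, 12]) : el i ∈ CW :=
  mem_CW.2 (eq_of_eqC (valid_mulN valid_w (valid_el i)) (valid_mulN (valid_el i) valid_w)
    (List.all_eq_true.1 comm_checks _ hi))

/-- The central product of the element and the sign. -/
def kEl (j : ℕ) : Co0 := negEl ^ (j / 3) * wEl ^ (j % 3)

/-- Its columns. -/
def kC (j : ℕ) : List ℕ := kLit.getD j []

theorem kLit_ok : ((List.range 6).all fun j =>
    eqC (kC j) (mulC (powC negLit (j / 3)) (powC (cl 0) (j % 3)))) = true := by decide +kernel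

theorem valid_kEl {j : ℕ} (hj : j < 6) : Valid (kEl j) (kC j) := by
  rw [eqC_iff.1 (List.all_eq_true.1 kLit_ok j (List.mem_range.2 hj))]
  exact Aut.valid_mul (valid_pow valid_neg _) (valid_pow valid_w _)

/-- The sum of the subgroup and the centre. -/
theorem mem_AZ_iff {g : Co0} : g ∈ aSub ⊔ Subgroup.center Co0 ↔ ∃ j < 6, g = kEl j := by
  rw [Subgroup.mem_sup_of_normal_right]
  constructor
  · rintro ⟨a, ha, c, hc, rfl⟩
    obtain ⟨k, hk, rfl⟩ : ∃ k < 3, a = wEl ^ k := by
      obtain ⟨k, rfl⟩ := Submonoid.mem_powers_iff _ _ |>.1 ((isOfFinOrder_of_finite wEl).mem_powers_iff_mem_zpowers.2 ha)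
      exact ⟨k % 3, Nat.mod_lt _ (by norm_num), by rw [← orderOf_wEl, pow_mod_orderOf]⟩
    have hc' : c = 1 ∨ c = negEl := by
      rw [← SetLike.mem_coe, Leech.center_eq] at hc
      simpa using hc
    rcases hc' with rfl | rfl
    · exact ⟨k, by omega, by simp [kEl, Nat.div_eq_of_lt hk, Nat.mod_eq_of_lt hk]⟩
    · refine ⟨k + 3, by omega, ?_⟩
      rw [kEl, Nat.add_div_right _ (by norm_num), Nat.div_eq_of_lt hk, Nat.add_mod_right, Nat.mod_eq_of_lt hk,
        pow_one, negEl_comm]
  · rintro ⟨j, -, rfl⟩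
    refine ⟨wEl ^ (j % 3), pow_mem (Subgroup.mem_zpowers wEl) _, negEl ^ (j / 3), pow_mem ?_ _,
      ((Commute.pow_pow (show Commute wEl negEl from negEl_comm wEl) _ _).eq)⟩
    rw [← SetLike.mem_coe, Leech.center_eq]
    exact Set.mem_insert_of_mem _ rfl

theorem k_inj_check : ((List.range 6).all fun i => (List.range 6).all fun j =>
    Nat.beq i j || !(eqC (kC i) (kC j))) = true := by decide +kernel

theorem kEl_injective {i j : ℕ} (hi : i < 6) (hj : j < 6) (h : kEl i = kEl j) : i = j := by
  have h1 := List.all_eq_true.1 (List.all_eq_true.1 k_inj_check i (List.mem_range.2 hi)) j (List.mem_range.2 hj)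
  rw [Bool.or_eq_true, Nat.beq_eq] at h1
  refine h1.resolve_right fun hne => ?_
  rw [Bool.not_eq_true'] at hne
  exact ne_of_eqC (valid_kEl hi) (valid_kEl hj) hne h

theorem kEl_mem_CW (j : ℕ) : kEl j ∈ CW :=
  mem_CW.2 (((show Commute wEl negEl from negEl_comm wEl).pow_right _).mul_right
    ((Commute.refl wEl).pow_right _)).eq

end CfsgLib.SuzSection
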