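import Cfsg.Agent.Lib.SuzSection.BoundChecks
import Cfsg.Agent.Lib.Leech.Simple.Pairs
import Cfsg.Agent.Lib.Leech.Stab.Co2Orbits
import Cfsg.Agent.Lib.Leech.Simple.Stab23
import Cfsg.Agent.Lib.Leech.Order

/-! An upper bound for the centraliser of the element of order three. -/

set_option autoImplicit false
set_option maxRecDepth 100000

namespace CfsgLib.SuzSection

open Cfsg CfsgLib CfsgLib.Leech CfsgLib.Leech.Stab CfsgLib.Leech.Aut

/-- The reference vector. -/
noncomputable def uL : leechLattice := lat codeU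

/-- Its image. -/
noncomputable def uwL : leechLattice := lat codeUW

theorem dot_lat {a b : ℕ} (ha : latB a = true) (hb : latB b = true) :
    dotInt (lat a : GolayPt → ℤ) (lat b : GolayPt → ℤ) = dotZ (dig 24 a) (dig 24 b) := by
  rw [← dotZ_listOf, (listOf_lat ha).1, (listOf_lat hb).1]

theorem smul_lat {g : Co0} {cols : List ℕ} (hg : Valid g cols) {a b : ℕ} (ha : latB a = true)
    (hb : latB b = true) (e : Nat.beq (stepC cols a) b = true) : g • lat a = lat b := by
  obtain ⟨-, h2, h3⟩ := listOf_lat ha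
  obtain ⟨-, h2', h3'⟩ := listOf_lat hb
  have h := follows_stepC hg _ _ h3 h2
  rw [Nat.eq_of_beq_eq_true e] at h
  exact Subtype.ext (rep_inj h h2' (by rw [sqNorm_smul]; exact h3) h3')

theorem norm_uL : sqNorm (uL : GolayPt → ℤ) = 32 := by
  rw [← dotInt_self, uL, dot_lat vec_checks.1 vec_checks.1]; exact vec_checks.2.2.2.1

theorem w_uL : wEl • uL = uwL := smul_lat valid_w vec_checks.1 vec_checks.2.1 vec_checks.2.2.2.2.2.2.1

theorem card_pairStab_uL : Nat.card (pairStab uL uwL) = 9196830720 := by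
  obtain ⟨h1, h2, -, -, h5, h6, -⟩ := vec_checks
  have hw : sqNorm (uwL : GolayPt → ℤ) = 32 := by
    rw [← dotInt_self, uwL, dot_lat h2 h2]; exact h5
  have hd : dotInt (uL : GolayPt → ℤ) (uwL : GolayPt → ℤ) = -16 := by
    rw [uL, uwL, dot_lat h1 h2]; exact h6
  have h := card_pairStab_mul uL uwL (S := dotSet uL (-16))
    (fun g hg x hx => ⟨(sqNorm_smul g x).trans hx.1, by rw [← hg, dotInt_smul]; exact hx.2⟩)
    ⟨hw, hd⟩ (fun x hx => transitive_dot_sixteen norm_uL hw hx.1 hd hx.2)
  rw [(census uL norm_uL).1, card_stabilizer32 norm_uL] at h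
  exact Nat.eq_of_mul_eq_mul_right (show 0 < 4600 by norm_num) (h.trans (by norm_num))

/-- The two generators of the stabiliser used. -/
def pEl : ℕ → Co0
  | 0 => el 8
  | _ => el 9

theorem pEl_mem : ∀ k, pEl k ∈ pairStab uL uwL := by
  obtain ⟨h1, h2, -, -, -, -, -, a, b, c, d⟩ := vec_checks
  intro k
  match k with
  | 0 => exact ⟨smul_lat (valid_el 8) h1 h1 a, smul_lat (valid_el 8) h2 h2 b⟩
  | _ + 1 => exact ⟨smul_lat (valid_el 9) h1 h1 c, smul_lat (valid_el 9) h2 h2 d⟩

/-- The product of a word. -/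
def pWord : List ℕ → Co0
  | [] => 1
  | k :: l => pEl k * pWord l

theorem pWord_mem : ∀ l, pWord l ∈ pairStab uL uwL
  | [] => one_mem _
  | k :: l => mul_mem (pEl_mem k) (pWord_mem l)

theorem valid_pEl : ∀ k, Valid (pEl k) (pC k) ∧ Valid (pEl k)⁻¹ (pI k)
  | 0 => ⟨valid_el 8, valid_el_inv 8⟩
  | _ + 1 => ⟨valid_el 9, valid_el_inv 9⟩

theorem follows_conj : ∀ l, Follows (pWord l * wEl * (pWord l)⁻¹) (conjAct l)
  | [] => by
    rw [pWord, one_mul, inv_one, mul_one]
    exact follows_stepC valid_w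
  | k :: l => by
    have h := ((follows_stepC (valid_pEl k).1).mul
      ((follows_conj l).mul (follows_stepC (valid_pEl k).2)))
    intro v n hv hn
    have h' := h v n hv hn
    simp only [strictN_eq] at h'
    rw [conjAct, strictN_eq, strictN_eq, pWord, show pEl k * pWord l * wEl * (pEl k * pWord l)⁻¹ =
      pEl k * ((pWord l * wEl * (pWord l)⁻¹) * (pEl k)⁻¹) by group]
    exact h'

theorem card_stab_CW : Nat.card (CW ⊓ MulAction.stabilizer Co0 uL : Subgroup Co0) * 672 ≤ 9196830720 := by
  obtain ⟨hnd, hlen⟩ := conj_checks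
  rw [← card_pairStab_uL]
  let f : ↥(CW ⊓ MulAction.stabilizer Co0 uL : Subgroup Co0) × Fin conjWords.length → pairStab uL uwL :=
    fun x => ⟨pWord conjWords[x.2] * x.1.1, mul_mem (pWord_mem _) (show x.1.1 ∈ pairStab uL uwL from
      ⟨x.1.2.2, show x.1.1 • uwL = uwL by
        rw [← w_uL, ← mul_smul, ← mem_CW.1 x.1.2.1, mul_smul, MulAction.mem_stabilizer_iff.1 x.1.2.2]⟩)⟩
  have hf : Function.Injective f := by
    intro x y h
    have e : pWord conjWords[x.2] * x.1.1 = pWord conjWords[y.2] * y.1.1 := congrArg Subtype.val h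
    have hc : ∀ (p : Co0) (c : ↥(CW ⊓ MulAction.stabilizer Co0 uL : Subgroup Co0)),
        p * c.1 * wEl * (p * c.1)⁻¹ = p * wEl * p⁻¹ := fun p c => by
      rw [mul_assoc p, ← mem_CW.1 c.2.1]; group
    have e2 : pWord conjWords[x.2] * wEl * (pWord conjWords[x.2])⁻¹ =
        pWord conjWords[y.2] * wEl * (pWord conjWords[y.2])⁻¹ :=
      ((hc _ x.1).symm.trans (congrArg (fun t => t * wEl * t⁻¹) e)).trans (hc _ y.1)
    obtain ⟨-, h2, h3⟩ := listOf_lat vec_checks.2.2.1
    have e3 := follows_conj conjWords[x.2] _ _ h3 h2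
    have e4 := follows_conj conjWords[y.2] _ _ h3 h2
    rw [e2] at e3
    have e5 : conjAct conjWords[x.2] codeSep = conjAct conjWords[y.2] codeSep := by
      simp only [Stab.Rep, colZ] at e3 e4
      omega
    have hidx : x.2 = y.2 := by
      have hg : (codesOf conjWords)[x.2.1]'(by simp [codesOf]) = (codesOf conjWords)[y.2.1]'(by simp [codesOf]) := by
        simp only [codesOf, List.getElem_map]
        exact e5
      exact Fin.ext (hnd.getElem_inj_iff.1 hg)
    refine Prod.ext (Subtype.ext ?_) hidx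
    refine mul_left_cancel (a := pWord conjWords[x.2]) (e.trans ?_)
    simp [hidx]
  have h := Nat.card_le_card_of_injective f hf
  rwa [Nat.card_prod, Nat.card_fin, hlen] at h

theorem card_CW_le : Nat.card CW ≤ 2690072985600 := by
  have h := Subgroup.card_mul_index ((MulAction.stabilizer Co0 uL).subgroupOf CW)
  have hc : Nat.card ((MulAction.stabilizer Co0 uL).subgroupOf CW) =
      Nat.card (CW ⊓ MulAction.stabilizer Co0 uL : Subgroup Co0) := by
    rw [← Subgroup.inf_subgroupOf_left]
    exact Nat.card_congr (Subgroup.subgroupOfEquivOfLe inf_le_left).toEquiv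
  have hi : ((MulAction.stabilizer Co0 uL).subgroupOf CW).index ≤ 196560 := by
    rw [← index_stabilizer32 norm_uL]
    exact Subgroup.relIndex_le_of_le_right le_top (by rw [Subgroup.relIndex_top_right]; exact Subgroup.index_ne_zero_of_finite) |>.trans
      (le_of_eq (Subgroup.relIndex_top_right _))
  have := card_stab_CW
  rw [hc] at h
  have := Nat.mul_le_mul this hi
  nlinarith

end CfsgLib.SuzSection
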