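import Cfsg.Agent.Lib.SuzSection.Base

/-! Checks for the bound on the centraliser. -/

set_option autoImplicit false
set_option maxRecDepth 100000

namespace CfsgLib.SuzSection

open Cfsg CfsgLib CfsgLib.Leech CfsgLib.Leech.Stab CfsgLib.Leech.Aut

theorem vec_checks : latB codeU = true ∧ latB codeUW = true ∧ latB codeSep = true ∧
    dotZ (dig 24 codeU) (dig 24 codeU) = 32 ∧ dotZ (dig 24 codeUW) (dig 24 codeUW) = 32 ∧
    dotZ (dig 24 codeU) (dig 24 codeUW) = -16 ∧ Nat.beq (stepC (cl 0) codeU) codeUW = true ∧
    Nat.beq (stepC (cl 8) codeU) codeU = true ∧ Nat.beq (stepC (cl 8) codeUW) codeUW = true ∧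
    Nat.beq (stepC (cl 9) codeU) codeU = true ∧ Nat.beq (stepC (cl 9) codeUW) codeUW = true := by
  decide +kernel

/-- The columns of the two generators. -/
def pC : ℕ → List ℕ
  | 0 => cl 8
  | _ => cl 9

/-- The columns of their inverses. -/
def pI : ℕ → List ℕ
  | 0 => clI 8
  | _ => clI 9

/-- The packed image of a packed vector under the conjugate given by a word. -/
def conjAct : List ℕ → ℕ → ℕ
  | [], n => stepC (cl 0) n
  | k :: l, n => strictN (stepC (pC k)) (strictN (conjAct l) (stepC (pI k) n))

/-- The images of the separating vector. -/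
def codesOf (ws : List (List ℕ)) : List ℕ := ws.map fun l => conjAct l codeSep

theorem conj_checks : (codesOf conjWords).Nodup ∧ conjWords.length = 672 := by decide +kernel

end CfsgLib.SuzSection
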