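import Cfsg.Agent.Lib.SuzSection.ExtraChecks
import Cfsg.Agent.Lib.LargeXS.OfCommutators

/-! The extraspecial group of order `2^7` and its coordinates. -/

set_option autoImplicit false
set_option maxRecDepth 100000

namespace CfsgLib.SuzSection

open Cfsg CfsgLib CfsgLib.Leech CfsgLib.Leech.Stab CfsgLib.Leech.Aut CfsgLib.ConwayInvol

/-- The extraspecial group. -/
def QW : Subgroup Co0 := Qt ⊓ CW

/-- The coordinate space. -/
abbrev V6 : Type := (Fin 2 ⊕ Fin 2) ⊕ Fin 2 → ZMod 2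

/-- Index of a coordinate. -/
def idx6 : (Fin 2 ⊕ Fin 2) ⊕ Fin 2 → ℕ :=
  Sum.elim (Sum.elim (fun i => i) (fun i => 2 + i)) (fun i => 4 + i)

/-- Decoding. -/
def dec6 (n : ℕ) : V6 := fun j => if n.testBit (idx6 j) then 1 else 0

/-- The pair of a member. -/
def pairOf (i : Fin 128) : ℕ × ℕ := qPairs[(i : ℕ)]'(by rw [pairs_checks.1]; exact i.2)

theorem pairOf_mem (i : Fin 128) : pairOf i ∈ qPairs := List.getElem_mem _

theorem pairOf_spec (i : Fin 128) : (pairOf i).1 ∈ fixCodes ∧ (pairOf i).2 ∈ disList := by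
  have h := List.all_eq_true.1 pairs_checks.2.2.1 _ (pairOf_mem i)
  simp only [Bool.and_eq_true, List.any_eq_true, Nat.beq_eq, exists_eq_right] at h
  exact h

/-- A member. -/
noncomputable def qEl (i : Fin 128) : Co0 :=
  monoEl (M24Orbits.perm (pairOf i).1)
    (M24Stab.mem_ptStab.1 (fixCodes_mem (pairOf_spec i).1).2).1
    (Golay.toWord (Golay.comb (pairOf i).2)) (Golay.toWord_comb_mem _)

theorem valid_qEl (i : Fin 128) : Valid (qEl i) (qC i) := by
  have h := List.all_eq_true.1 pairs_checks.2.2.2.1 i.1 (List.mem_range.2 i.2)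
  rw [List.getD_eq_getElem _ _ (by rw [pairs_checks.1]; exact i.2)] at h
  rw [eqC_iff.1 h]
  refine valid_monoC fun q hq => ?_
  rw [M24Orbits.bit_perm (fixCodes_mem (pairOf_spec i).1).1, Golay.bit_pt hq]
  rfl

theorem qEl_mem (i : Fin 128) : qEl i ∈ QW := by
  refine ⟨mem_Qt_iff.2 ⟨_, (fixCodes_mem (pairOf_spec i).1).2, _, _, (disList_vanish (pairOf_spec i).2).2, rfl⟩, ?_⟩
  have hm : qC i ∈ qLit := by
    rw [qC, List.getD_eq_getElem _ _ (by rw [pairs_checks.2.1]; exact i.2)]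
    exact List.getElem_mem _
  exact mem_CW.2 (eq_of_eqC (valid_mulN valid_w (valid_qEl i)) (valid_mulN (valid_qEl i) valid_w)
    (List.all_eq_true.1 pairs_checks.2.2.2.2 _ hm))

theorem exists_qEl {g : Co0} (hg : g ∈ QW) : ∃ i, qEl i = g := by
  obtain ⟨τ, hτ, c, hc, h0, rfl⟩ := mem_Qt_iff.1 hg.1
  obtain ⟨p, hp, rfl⟩ := exists_fixCode hτ
  obtain ⟨x, hx, rfl⟩ := exists_disList hc h0
  have h := List.all_eq_true.1 (List.all_eq_true.1 cover_check p hp) x hx
  have hv : Valid (monoEl (M24Orbits.perm p) (M24Stab.mem_ptStab.1 hτ).1 (Golay.toWord (Golay.comb x)) hc)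
      (monoC (fun q => Comp.PermCode.get p q) (Golay.comb x)) :=
    valid_monoC fun q hq => by rw [M24Orbits.bit_perm (fixCodes_mem hp).1, Golay.bit_pt hq]
  rw [Bool.or_eq_true] at h
  rcases h with h | h
  · simp only [List.any_eq_true, Bool.and_eq_true, Nat.beq_eq] at h
    obtain ⟨e, he, e1, e2⟩ := h
    obtain ⟨i, hi, rfl⟩ := List.getElem_of_mem he
    refine ⟨⟨i, pairs_checks.1 ▸ hi⟩, monoEl_congr ?_ ?_⟩
    · show M24Orbits.perm (qPairs[i]).1 = _
      rw [e1]
    · show Golay.toWord (Golay.comb (qPairs[i]).2) = _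
      rw [e2]
  · rw [Bool.not_eq_true'] at h
    exact absurd (mem_CW.1 hg.2) (ne_of_eqC (valid_mulN valid_w hv) (valid_mulN hv valid_w) h)

theorem qEl_injective : Function.Injective qEl := fun i j e => by
  have h := List.all_eq_true.1 (List.all_eq_true.1 distinct_check i.1 (List.mem_range.2 i.2)) j.1
    (List.mem_range.2 j.2)
  rw [Bool.or_eq_true, Bool.not_eq_true', Nat.beq_eq] at h
  exact Fin.ext (h.resolve_right fun hne => ne_of_eqC (valid_qEl i) (valid_qEl j) hne e)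

/-- The members as an enumeration. -/
noncomputable def qEquiv : Fin 128 ≃ QW :=
  Equiv.ofBijective (fun i => ⟨qEl i, qEl_mem i⟩)
    ⟨fun _ _ h => qEl_injective (congrArg Subtype.val h),
      fun g => (exists_qEl g.2).imp fun _ h => Subtype.ext h⟩

theorem coe_qEquiv (i : Fin 128) : ((qEquiv i : QW) : Co0) = qEl i := rfl

theorem card_QW : Nat.card QW = 2 ^ 7 := by
  rw [← Nat.card_congr qEquiv, Nat.card_fin]; norm_num

/-- The coordinates. -/
noncomputable def piV (g : QW) : V6 := dec6 (qEquiv.symm g : ℕ)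

theorem piV_qEl (i : Fin 128) : piV (qEquiv i) = dec6 i := by rw [piV, Equiv.symm_apply_apply]

theorem dec6_xor (a b : ℕ) : dec6 (a ^^^ b) = dec6 a + dec6 b := by
  funext j
  simp only [dec6, Pi.add_apply, Nat.testBit_xor]
  cases a.testBit (idx6 j) <;> cases b.testBit (idx6 j) <;> rfl

theorem dec6_64 : dec6 64 = 0 := by decide +kernel

/-- Multiplication by a generator. -/
theorem mul_gen {k : Fin 128} (hk : (k : ℕ) ∈ [1, 2, 4, 8, 16, 32, 64]) (i : Fin 128) :
    ∃ j : Fin 128, qEquiv k * qEquiv i = qEquiv j ∧ ((j : ℕ) = i ^^^ k ∨ (j : ℕ) = i ^^^ k ^^^ 64) := by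
  have h := List.all_eq_true.1 (List.all_eq_true.1 mul_check _ hk) i.1 (List.mem_range.2 i.2)
  simp only [Bool.or_eq_true] at h
  have hlt : ∀ a b : ℕ, a < 128 → b < 128 → a ^^^ b < 128 := fun a b ha hb =>
    Nat.xor_lt_two_pow (n := 7) ha hb
  rcases h with h | h
  · refine ⟨⟨_, hlt _ _ i.2 k.2⟩, Subtype.ext ?_, Or.inl rfl⟩
    exact eq_of_eqC (valid_mulN (valid_qEl k) (valid_qEl i)) (valid_qEl ⟨_, hlt _ _ i.2 k.2⟩) h
  · refine ⟨⟨_, hlt _ _ (hlt _ _ i.2 k.2) (by norm_num : 64 < 128)⟩, Subtype.ext ?_, Or.inr rfl⟩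
    exact eq_of_eqC (valid_mulN (valid_qEl k) (valid_qEl i))
      (valid_qEl ⟨_, hlt _ _ (hlt _ _ i.2 k.2) (by norm_num : 64 < 128)⟩) h

/-- The generators. -/
def gens7 : Set QW := qEquiv '' {k | (k : ℕ) ∈ [1, 2, 4, 8, 16, 32, 64]}

theorem qEquiv_zero : qEquiv 0 = 1 :=
  Subtype.ext (eq_of_eqC (valid_qEl 0) valid_one sq_check.2.1)

theorem qEl_64 : qEl 64 = coEl := eq_of_eqC (valid_qEl 64) valid_coEl sq_check.2.2

theorem piV_one : piV 1 = 0 := by
  rw [← qEquiv_zero, piV_qEl]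
  funext j
  simp [dec6]

theorem gens_closure : Subgroup.closure gens7 = ⊤ := by
  rw [eq_top_iff]
  intro g _
  obtain ⟨i, rfl⟩ := qEquiv.surjective g
  have hz : qEquiv 64 ∈ Subgroup.closure gens7 :=
    Subgroup.subset_closure ⟨64, by simp [Set.mem_setOf_eq], rfl⟩
  suffices H : ∀ n, ∀ i : Fin 128, (i : ℕ) < n → qEquiv i ∈ Subgroup.closure gens7 from H 128 i i.2
  intro n
  induction n with
  | zero => intro i hi; omega
  | succ n ih =>
    intro i hi
    by_cases h0 : i = 0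
    · rw [h0, qEquiv_zero]; exact one_mem _
    have hstep : ∀ i : Fin 128, i ≠ 0 → ([1, 2, 4, 8, 16, 32, 64].any fun k =>
        Nat.blt (i.1 ^^^ k) i.1) = true := by decide +kernel
    obtain ⟨k, hk, hlt⟩ := List.any_eq_true.1 (hstep i h0)
    rw [Nat.blt_eq] at hlt
    have hk128 : k < 128 := by
      simp only [List.mem_cons, List.not_mem_nil, or_false] at hk
      omega
    obtain ⟨j, he, hj⟩ := mul_gen (k := ⟨k, hk128⟩) hk ⟨i.1 ^^^ k, by omega⟩
    have hkm : qEquiv ⟨k, hk128⟩ ∈ Subgroup.closure gens7 := Subgroup.subset_closure ⟨_, hk, rfl⟩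
    have hm := mul_mem hkm (ih ⟨i.1 ^^^ k, by omega⟩ (by simp only; omega))
    rw [he] at hm
    simp only [Nat.xor_assoc, Nat.xor_self, Nat.xor_zero] at hj
    rcases hj with hj | hj
    · rwa [show i = j from Fin.ext hj.symm]
    · obtain ⟨j', he', hj'⟩ := mul_gen (k := 64) (by simp) j
      have hm' := mul_mem hz hm
      rw [he'] at hm'
      rw [hj, show ((64 : Fin 128) : ℕ) = 64 from rfl, Nat.xor_assoc, Nat.xor_self, Nat.xor_zero] at hj'
      rcases hj' with hj' | hj'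
      · rwa [show i = j' from Fin.ext hj'.symm]
      · rw [← hj] at hj'
        rw [show j' = j from Fin.ext hj'] at he'
        exact absurd (mul_eq_right.1 he') (by
          rw [← qEquiv_zero, qEquiv.apply_eq_iff_eq]; decide)

theorem piV_mul (x y : QW) : piV (x * y) = piV x + piV y := by
  have h : x ∈ Subgroup.closure gens7 := gens_closure ▸ Subgroup.mem_top x
  induction h using Subgroup.closure_induction generalizing y with
  | mem a ha =>
    obtain ⟨k, hk, rfl⟩ := ha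
    obtain ⟨i, rfl⟩ := qEquiv.surjective y
    obtain ⟨j, he, hj⟩ := mul_gen hk i
    rw [he, piV_qEl, piV_qEl, piV_qEl, ← dec6_xor, Nat.xor_comm (k : ℕ)]
    rcases hj with hj | hj <;> rw [hj]
    rw [dec6_xor _ 64, dec6_64, add_zero]
  | one => rw [one_mul, piV_one, zero_add]
  | mul a b _ _ iha ihb => rw [mul_assoc, iha, ihb, iha, add_assoc]
  | inv a _ iha =>
    have h1 := iha (a⁻¹ * y)
    have h2 := iha a⁻¹
    rw [mul_inv_cancel_left] at h1
    rw [mul_inv_cancel, piV_one] at h2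
    rw [h1, ← add_assoc, add_comm (piV a⁻¹), ← h2, zero_add]

theorem dec6_inj_zero : ∀ i : Fin 128, dec6 i = 0 → i = 0 ∨ i = 64 := by decide +kernel

theorem piV_eq_zero {g : QW} (h : piV g = 0) : g = 1 ∨ g = qEquiv 64 := by
  obtain ⟨i, rfl⟩ := qEquiv.surjective g
  rw [piV_qEl] at h
  rcases dec6_inj_zero i h with rfl | rfl
  · exact Or.inl qEquiv_zero
  · exact Or.inr rfl

theorem piV_surjective : Function.Surjective piV := fun v => by
  obtain ⟨i, hi⟩ := (by decide +kernel : ∀ v : V6, ∃ i : Fin 128, dec6 i = v) v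
  exact ⟨qEquiv i, by rw [piV_qEl, hi]⟩

theorem dec6_low : ∀ i : Fin 128, (i : ℕ) &&& 63 = 0 → dec6 i = 0 := by decide +kernel

theorem qForm_spec : ∀ i : Fin 128,
    quadFormMinus 2 (ZMod 2) 1 1 (dec6 i) = if q6B i then 1 else 0 := by decide +kernel

theorem sq_eq (g : QW) :
    g * g = if quadFormMinus 2 (ZMod 2) 1 1 (piV g) = 1 then qEquiv 64 else 1 := by
  obtain ⟨i, rfl⟩ := qEquiv.surjective g
  have h := List.all_eq_true.1 sq_check.1 i.1 (List.mem_range.2 i.2)
  rw [piV_qEl, qForm_spec]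
  cases hq : q6B i <;> rw [hq] at h
  · rw [if_neg Bool.false_ne_true, if_neg zero_ne_one, ← qEquiv_zero]
    exact Subtype.ext (eq_of_eqC (valid_mulN (valid_qEl i) (valid_qEl i)) (valid_qEl 0) h)
  · rw [if_pos rfl, if_pos rfl]
    exact Subtype.ext (eq_of_eqC (valid_mulN (valid_qEl i) (valid_qEl i)) (valid_qEl 64) h)

theorem qEquiv_64_ne : qEquiv 64 ≠ 1 := by
  rw [← qEquiv_zero, Ne, qEquiv.apply_eq_iff_eq]; decide

theorem zQ_comm (y : QW) : y * qEquiv 64 = qEquiv 64 * y := by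
  obtain ⟨i, rfl⟩ := qEquiv.surjective y
  have h := List.all_eq_true.1 center_check i.1 (List.mem_range.2 i.2)
  rw [Bool.and_eq_true] at h
  exact Subtype.ext (eq_of_eqC (valid_mulN (valid_qEl i) (valid_qEl 64)) (valid_mulN (valid_qEl 64) (valid_qEl i))
    (eqC_iff.2 (eqC_iff.1 h.1).symm))

theorem piV_inv (g : QW) : piV g⁻¹ = piV g := by
  have h := piV_mul g⁻¹ g
  rw [inv_mul_cancel, piV_one] at h
  funext j
  have := congrFun h j
  simp only [Pi.zero_apply, Pi.add_apply] at this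
  rw [← ZMod.neg_eq_self_mod_two (piV g j)]
  exact eq_neg_of_add_eq_zero_left this.symm

theorem extraspecial_QW : Cfsg.IsExtraspecial 2 QW := by
  haveI : Fact (Nat.Prime 2) := ⟨Nat.prime_two⟩
  haveI : Finite QW := Finite.of_equiv _ qEquiv
  refine LargeXS.isExtraspecial_of (IsPGroup.of_card card_QW) (c := qEquiv 64) qEquiv_64_ne
    (fun x y => piV_eq_zero ?_) (fun x => piV_eq_zero ?_) (fun x hx => piV_eq_zero ?_) zQ_comm ?_
  · rw [piV_mul, piV_mul, piV_mul, piV_inv, piV_inv]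
    funext j
    simp only [Pi.add_apply, Pi.zero_apply]
    linear_combination (piV x j + piV y j) * (CharTwo.two_eq_zero (R := ZMod 2))
  · rw [piV_mul]
    funext j
    simp only [Pi.add_apply, Pi.zero_apply]
    exact CharTwo.add_self_eq_zero _
  · obtain ⟨i, rfl⟩ := qEquiv.surjective x
    have h := List.all_eq_true.1 center_check i.1 (List.mem_range.2 i.2)
    simp only [Bool.and_eq_true, Bool.or_eq_true, Nat.beq_eq, List.any_eq_true, Bool.not_eq_true'] at h
    rcases h.2 with h0 | ⟨k, hk, hne⟩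
    · rw [piV_qEl]
      exact dec6_low i h0
    · exfalso
      have hk' : k < 128 := by
        simp only [List.mem_cons, List.not_mem_nil, or_false] at hk
        omega
      exact ne_of_eqC (valid_mulN (valid_qEl ⟨k, hk'⟩) (valid_qEl i)) (valid_mulN (valid_qEl i) (valid_qEl ⟨k, hk'⟩))
        hne (congrArg Subtype.val (hx (qEquiv ⟨k, hk'⟩)))
  · refine ⟨qEquiv 1, ?_, ?_⟩
    · rw [← qEquiv_zero, Ne, qEquiv.apply_eq_iff_eq]; decide
    · rw [Ne, qEquiv.apply_eq_iff_eq]; decide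

end CfsgLib.SuzSection
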