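import Cfsg.Agent.Lib.SuzSection.Mono

/-! Checks on the extraspecial group. -/

set_option autoImplicit false
set_option maxRecDepth 100000

namespace CfsgLib.SuzSection

open Cfsg CfsgLib CfsgLib.Leech CfsgLib.Leech.Stab CfsgLib.Leech.Aut CfsgLib.ConwayInvol

/-- The form on six-bit codes. -/
def q6B (i : ℕ) : Bool :=
  ((i.testBit 0 && i.testBit 2) ^^ (i.testBit 1 && i.testBit 3)) ^^
    (i.testBit 4 ^^ (i.testBit 4 && i.testBit 5) ^^ i.testBit 5)

/-- The table of columns. -/
def qC (i : ℕ) : List ℕ := qLit.getD i []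

theorem pairs_checks : qPairs.length = 128 ∧ qLit.length = 128 ∧
    (qPairs.all fun e => fixCodes.any (fun p => Nat.beq p e.1) && disList.any fun x => Nat.beq x e.2) = true ∧
    ((List.range 128).all fun i => eqC (qC i)
      (monoC (fun q => Comp.PermCode.get (qPairs.getD i (0, 0)).1 q) (Golay.comb (qPairs.getD i (0, 0)).2))) = true ∧
    (qLit.all fun A => eqC (mulN (cl 0) A) (mulN A (cl 0))) = true := by
  decide +kernel

theorem cover_check : (fixCodes.all fun p => disList.all fun x =>
    qPairs.any (fun e => Nat.beq e.1 p && Nat.beq e.2 x) ||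
      (fun A => !(eqC (mulN (cl 0) A) (mulN A (cl 0)))) (monoC (fun q => Comp.PermCode.get p q) (Golay.comb x))) =
    true := by
  decide +kernel

theorem distinct_check : ((List.range 128).all fun i => (List.range 128).all fun j =>
    Nat.beq i j || !(eqC (qC i) (qC j))) = true := by
  decide +kernel

theorem mul_check : ([1, 2, 4, 8, 16, 32, 64].all fun k => (List.range 128).all fun i =>
    (fun P => eqC P (qC (i ^^^ k)) || eqC P (qC (i ^^^ k ^^^ 64))) (mulN (qC k) (qC i))) = true := by
  decide +kernel

theorem sq_check : ((List.range 128).all fun i =>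
    eqC (mulN (qC i) (qC i)) (bif q6B i then qC 64 else qC 0)) = true ∧
    eqC (qC 0) idC = true ∧ eqC (qC 64) (monoC id (16777215 ^^^ octMask)) = true := by
  decide +kernel

theorem center_check : ((List.range 128).all fun i =>
    eqC (mulN (qC 64) (qC i)) (mulN (qC i) (qC 64)) && (Nat.beq (i &&& 63) 0 ||
      [1, 2, 4, 8, 16, 32].any fun k => !(eqC (mulN (qC k) (qC i)) (mulN (qC i) (qC k))))) = true := by
  decide +kernel

end CfsgLib.SuzSection
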