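import Cfsg.Agent.Lib.SuzSection.Base
import Cfsg.Agent.Lib.CosetEnum.Suz.Pres

/-! The relators of the presentation hold in the centraliser up to the central product. -/

set_option autoImplicit false
set_option maxRecDepth 100000

namespace CfsgLib.SuzSection

open Cfsg CfsgLib CfsgLib.Leech CfsgLib.Leech.Stab CfsgLib.Leech.Aut

/-- The columns of a word in the seven images. -/
def wordC : List ℕ → List ℕ
  | [] => kC 0
  | x :: l => mulN (cl (x + 1)) (wordC l)

/-- Continue with a list of natural numbers whose entries have been evaluated. -/
def withN : List ℕ → (List ℕ → Bool) → Bool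
  | [], k => k []
  | 0 :: l, k => withN l fun r => k (0 :: r)
  | (n + 1) :: l, k => withN l fun r => k ((n + 1) :: r)

theorem withN_eq : ∀ (l : List ℕ) (k : List ℕ → Bool), withN l k = k l
  | [], _ => rfl
  | 0 :: l, k => by rw [withN, withN_eq l]
  | (n + 1) :: l, k => by rw [withN, withN_eq l]

/-- The word check with evaluated intermediate columns. -/
def wordK : List ℕ → (List ℕ → Bool) → Bool
  | [], k => k (kC 0)
  | x :: l, k => wordK l fun c => withN (mulN (cl (x + 1)) c) k

theorem wordK_eq : ∀ (l : List ℕ) (k : List ℕ → Bool), wordK l k = k (wordC l)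
  | [], _ => rfl
  | x :: l, k => by rw [wordK, wordK_eq l, withN_eq, wordC]

/-- The check of one relator. -/
def relB (l : List ℕ) : Bool :=
  l.all (fun x => Nat.blt x 7) && wordK l fun c => (List.range 6).any fun j => eqC c (kC j)

theorem rel_short : ((CfsgLib.CosetEnum.Suz.ls.take 53).all relB) = true := by decide +kernel

theorem rel_long : ((CfsgLib.CosetEnum.Suz.ls.drop 53).all relB) = true := by decide +kernel

theorem rel_checks : (CfsgLib.CosetEnum.Suz.ls.all fun l =>
    l.all (fun x => Nat.blt x 7) && (fun c => (List.range 6).any fun j => eqC c (kC j)) (wordC l)) = true := by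
  have h : CfsgLib.CosetEnum.Suz.ls.all relB = true := by
    rw [← List.take_append_drop 53 CfsgLib.CosetEnum.Suz.ls, List.all_append, rel_short, rel_long]
    rfl
  have e : relB = fun l => l.all (fun x => Nat.blt x 7) &&
      (fun c => (List.range 6).any fun j => eqC c (kC j)) (wordC l) := by
    funext l
    rw [relB, wordK_eq]
  rwa [e] at h

theorem im_checks : eqC (kC 0) idC = true ∧ ((List.range 6).all fun j => !(eqC (cl 1) (kC j))) = true := by
  decide +kernel

end CfsgLib.SuzSection
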