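import Cfsg.Agent.Lib.SuzSection.ExtraChecks

/-! Checks on the centraliser of the involution. -/

set_option autoImplicit false
set_option maxRecDepth 100000

namespace CfsgLib.SuzSection

open Cfsg CfsgLib CfsgLib.Leech CfsgLib.Leech.Stab CfsgLib.Leech.Aut CfsgLib.ConwayInvol

/-- The image of a six-bit code under one of the two generators. -/
def apM (k v : ℕ) : ℕ :=
  (List.range 6).foldl (fun r b => bif v.testBit b then r ^^^ ((hImg.getD k []).getD b 0 &&& 63) else r) 0

/-- The image of a code under a word. -/
def apW : List ℕ → ℕ → ℕ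
  | [], v => v
  | k :: l, v => apM k (apW l v)

theorem hImg_check : ([0, 1].all fun k => (List.range 6).all fun b =>
    Nat.blt ((hImg.getD k []).getD b 0) 128 &&
      eqC (mulN (cl (10 + k)) (qC (1 <<< b))) (mulN (qC ((hImg.getD k []).getD b 0)) (cl (10 + k)))) = true := by
  decide +kernel

theorem wit_checks : witQ < 128 ∧ eqC (mulN (cl 12) tC) (mulN (qC witQ) (cl 12)) = true ∧
    ((List.range 6).all fun j => !(eqC (mulN (qC witQ) tC) (kC j)) && !(eqC tC (kC j))) = true ∧
    ((List.range 6).all fun j => Nat.beq j 0 || Nat.beq j 3 || !(eqC (mulN (kC j) (kC j)) idC)) = true ∧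
    ((List.range 6).all fun j => Nat.beq j 0 || qLit.all fun A => !(eqC A (kC j))) = true := by
  decide +kernel

/-- The base points before a level. -/
def prevPts (n : ℕ) : List ℕ := (chain.take n).map Prod.fst

theorem chain_checks : (chain.map fun e => e.2.length) = [36, 20, 9, 4] ∧
    ((List.range 4).all fun n => (fun e =>
      Nat.blt e.1 64 && e.2.all (fun l => l.all (fun k => Nat.blt k 2) &&
        (prevPts n).all fun b => Nat.beq (apW l b) b)) (chain.getD n (0, []))) = true ∧
    (chain.all fun e => decide ((e.2.map fun l => apW l e.1).Nodup)) = true := by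
  decide +kernel

end CfsgLib.SuzSection
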