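import Cfsg.Agent.Lib.SuzSection.Mono

/-! The image of the centraliser on the octad lattice modulo two is inside a unitary group. -/

set_option autoImplicit false
set_option maxRecDepth 100000

namespace CfsgLib.SuzSection

open Cfsg CfsgLib CfsgLib.Leech CfsgLib.Leech.Stab CfsgLib.Leech.Aut CfsgLib.ConwayInvol Matrix
open CfsgLib.Leech.Orbits (vecOf)

/-- The code of a vector. -/
def encV (v : V) : ℕ :=
  Golay.bitsOf (fun k => decide (v (if k < 4 then .inl (Fin.ofNat 4 k) else .inr (Fin.ofNat 4 (k - 4))) = 1)) 8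

theorem encV_lt (v : V) : encV v < 256 := by
  have := Golay.bitsOf_lt (fun k =>
    decide (v (if k < 4 then .inl (Fin.ofNat 4 k) else .inr (Fin.ofNat 4 (k - 4))) = 1)) 8
  simpa [encV] using this

theorem decV_encV : ∀ v : V, decV (encV v) = v := by decide +kernel

/-- The form on codes. -/
def qB (a : ℕ) : Bool :=
  ((a.testBit 0 && a.testBit 4) ^^ (a.testBit 1 && a.testBit 5)) ^^
    ((a.testBit 2 && a.testBit 6) ^^ (a.testBit 3 && a.testBit 7))

/-- The polar form on codes. -/
def polB (a b : ℕ) : Bool :=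
  qB (a ^^^ b) ^^ qB a ^^ qB b

theorem ite_mul_ite (a b : Bool) :
    ((if a then 1 else 0) * (if b then 1 else 0) : ZMod 2) = if (a && b) then 1 else 0 := by
  cases a <;> cases b <;> rfl

theorem ite_add_ite (a b : Bool) :
    ((if a then 1 else 0) + (if b then 1 else 0) : ZMod 2) = if (a ^^ b) then 1 else 0 := by
  cases a <;> cases b <;> rfl

theorem qp_decV (a : ℕ) : quadFormPlus 4 (ZMod 2) (decV a) = if qB a then 1 else 0 := by
  have key : ∀ b0 b1 b2 b3 b4 b5 b6 b7 : Bool,
      ((if b0 then 1 else 0) * (if b4 then 1 else 0) + (if b1 then 1 else 0) * (if b5 then 1 else 0) +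
        (if b2 then 1 else 0) * (if b6 then 1 else 0) + (if b3 then 1 else 0) * (if b7 then 1 else 0) : ZMod 2) =
      if ((b0 && b4) ^^ (b1 && b5)) ^^ ((b2 && b6) ^^ (b3 && b7)) then 1 else 0 := by decide
  simp only [quadFormPlus, Fin.sum_univ_four]
  exact key (a.testBit 0) (a.testBit 1) (a.testBit 2) (a.testBit 3) (a.testBit 4) (a.testBit 5) (a.testBit 6)
    (a.testBit 7)

theorem decV_xor (a b : ℕ) : decV (a ^^^ b) = decV a + decV b := by
  funext j
  simp only [decV, Pi.add_apply, Nat.testBit_xor, ite_add_ite]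

theorem pol_decV (a b : ℕ) : F2Quad.pol 4 (decV a) (decV b) = if polB a b then 1 else 0 := by
  rw [← F2Quad.pol_eq, ← decV_xor, qp_decV, qp_decV, qp_decV, polB]
  cases qB (a ^^^ b) <;> cases qB a <;> cases qB b <;> rfl

/-- The action of the element of order three on codes. -/
def jB (a : ℕ) : ℕ :=
  (List.range 8).foldl (fun r k => bif a.testBit k then r ^^^ jCols.getD k 0 else r) 0

/-- Its matrix. -/
def jMat : Matrix (Fin 4 ⊕ Fin 4) (Fin 4 ⊕ Fin 4) (ZMod 2) :=
  Matrix.of fun i j => decV (jCols.getD (ConwayInvol.idx j) 0) i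

theorem jB_spec : ∀ a < 256, jMat *ᵥ decV a = decV (jB a) := by decide +kernel

/-- The element of order three in the centraliser of the sign change. -/
def wCent : Cent := ⟨wEl, el_mem_Cent (i := 0) (by decide)⟩

/-- Codes of the lifts of the unit vectors. -/
def liftCode (j : Fin 4 ⊕ Fin 4) : ℕ := packL (lin (listOf (emb (ConwayInvol.lift j))))

theorem oct_checks : ∀ j : Fin 4 ⊕ Fin 4, latB (liftCode j) = true ∧
    latB (octImg.getD (ConwayInvol.idx j) 0) = true ∧
    dig 24 (liftCode j) = listOf (emb (ConwayInvol.lift j)) ∧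
    Nat.beq (stepC (cl 0) (liftCode j)) (octImg.getD (ConwayInvol.idx j) 0) = true ∧
    phi (res (vecOf (dig 24 (octImg.getD (ConwayInvol.idx j) 0)))) = fun i => jMat i j := by
  decide +kernel

theorem rho_wCent : mat (rho wCent) = jMat := by
  rw [mat_rho]
  refine rhoMat_ext fun j => ?_
  obtain ⟨h1, h2, h3, h4, h5⟩ := oct_checks j
  obtain ⟨e1, r1, n1⟩ := listOf_lat h1
  obtain ⟨e2, r2, n2⟩ := listOf_lat h2
  have hL : liftL (liftE j) = lat (liftCode j) := by
    refine Subtype.ext (funext fun p => ?_)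
    rw [← getD_listOf (lat (liftCode j) : GolayPt → ℤ), e1, h3, getD_listOf]
    rfl
  have hR : wEl • lat (liftCode j) = lat (octImg.getD (ConwayInvol.idx j) 0) := by
    refine Subtype.ext (rep_inj ?_ r2 (by rw [sqNorm_smul]; exact n1) n2)
    have h := follows_stepC valid_w _ _ n1 r1
    rwa [Nat.eq_of_beq_eq_true h4] at h
  have hv : (lat (octImg.getD (ConwayInvol.idx j) 0) : GolayPt → ℤ) =
      vecOf (dig 24 (octImg.getD (ConwayInvol.idx j) 0)) := by
    funext p
    rw [← getD_listOf (lat _ : GolayPt → ℤ), e2]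
    rfl
  show phi (res ((wEl • liftL (liftE j) : leechLattice) : GolayPt → ℤ)) = _
  rw [hL, hR, hv, h5]

/-- The keys of the table of orthogonality masks. -/
def keys : List ℕ := perpMasks.map Prod.fst

/-- The mask of a vector. -/
def maskAt (a : ℕ) : ℕ := ((perpMasks.find? fun e => Nat.beq e.1 a).map Prod.snd).getD 0

theorem mask_checks :
    (perpMasks.all fun e => (List.range 256).all fun b =>
      !(qB b && !(polB e.1 b) && !(polB (jB e.1) b)) || e.2.testBit b) = true ∧
    ((List.range 256).all fun b => !(qB b) || keys.any (fun a => Nat.beq a b)) = true ∧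
    (perpMasks.all fun e => Nat.beq (maskAt e.1) e.2) = true := by
  decide +kernel

/-- The vectors orthogonal to one. -/
def lev2 (a : ℕ) : List ℕ := keys.filter fun b => (maskAt a).testBit b

/-- The vectors orthogonal to two. -/
def lev3 (a b : ℕ) : List ℕ := (lev2 a).filter fun c => (maskAt b).testBit c

/-- The vectors orthogonal to three. -/
def lev4 (a b c : ℕ) : List ℕ := (lev3 a b).filter fun d => (maskAt c).testBit d

theorem count_checks : keys.length = 120 ∧
    (keys.all fun a => Nat.ble (lev2 a).length 36 && (lev2 a).all fun b => Nat.ble (lev3 a b).length 6 &&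
      (lev3 a b).all fun c => Nat.ble (lev4 a b c).length 3) = true := by
  decide +kernel

/-- All orthogonal quadruples. -/
def quads : List (ℕ × ℕ × ℕ × ℕ) :=
  keys.flatMap fun a => (lev2 a).flatMap fun b => (lev3 a b).flatMap fun c =>
    (lev4 a b c).map fun d => (a, b, c, d)

theorem length_flatMap_le {α β : Type*} (f : α → List β) (n : ℕ) :
    ∀ {l : List α}, (∀ x ∈ l, (f x).length ≤ n) → (l.flatMap f).length ≤ l.length * n
  | [], _ => by simp
  | a :: l, h => by
    have h1 := length_flatMap_le f n fun x hx => h x (List.mem_cons_of_mem _ hx)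
    have h2 := h a List.mem_cons_self
    simp only [List.flatMap_cons, List.length_append, List.length_cons, Nat.succ_mul]
    omega

theorem length_quads : quads.length ≤ 77760 := by
  obtain ⟨hk, h⟩ := count_checks
  simp only [List.all_eq_true, Bool.and_eq_true, Nat.ble_eq] at h
  refine (length_flatMap_le _ (36 * (6 * 3)) fun a ha => ?_).trans (by rw [hk])
  refine (length_flatMap_le _ (6 * 3) fun b hb => ?_).trans (Nat.mul_le_mul_right _ (h a ha).1)
  refine (length_flatMap_le _ 3 fun c hc => ?_).trans (Nat.mul_le_mul_right _ ((h a ha).2 b hb).1)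
  rw [List.length_map]
  exact ((h a ha).2 b hb).2 c hc

/-- The frame and its images as a matrix. -/
def frMat : Matrix (Fin 4 ⊕ Fin 4) (Fin 4 ⊕ Fin 4) (ZMod 2) :=
  Matrix.of fun i j => decV (frame.getD (ConwayInvol.idx j) 0) i

/-- The inverse of the frame. -/
def frInv : Matrix (Fin 4 ⊕ Fin 4) (Fin 4 ⊕ Fin 4) (ZMod 2) :=
  Matrix.of fun i j => decV (frameInv.getD (ConwayInvol.idx j) 0) i

theorem frame_checks : frMat * frInv = 1 ∧
    (∀ i : Fin 4, decV (frame.getD (4 + i) 0) = jMat *ᵥ decV (frame.getD i 0)) ∧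
    (∀ i : Fin 4, qB (frame.getD i 0) = true) ∧
    (∀ i j : Fin 4, i < j → polB (frame.getD i 0) (frame.getD j 0) = false ∧
      polB (jB (frame.getD i 0)) (frame.getD j 0) = false ∧ frame.getD i 0 < 256) := by
  decide +kernel

/-- The image of the frame. -/
def tupleOf (M : Matrix (Fin 4 ⊕ Fin 4) (Fin 4 ⊕ Fin 4) (ZMod 2)) : ℕ × ℕ × ℕ × ℕ :=
  (encV (M *ᵥ decV (frame.getD 0 0)), encV (M *ᵥ decV (frame.getD 1 0)),
    encV (M *ᵥ decV (frame.getD 2 0)), encV (M *ᵥ decV (frame.getD 3 0)))

theorem tuple_mem {g : G8} (hJ : jMat * mat g = mat g * jMat) : tupleOf (mat g) ∈ quads := by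
  have hq : ∀ x : V, quadFormPlus 4 (ZMod 2) (mat g *ᵥ x) = quadFormPlus 4 (ZMod 2) x := fun x => g.2 x x
  have hp : ∀ x y : V, F2Quad.pol 4 (mat g *ᵥ x) (mat g *ᵥ y) = F2Quad.pol 4 x y := fun x y => by
    rw [← F2Quad.pol_eq, ← F2Quad.pol_eq, ← Matrix.mulVec_add, hq, hq, hq]
  obtain ⟨-, -, hone, hperp⟩ := frame_checks
  set a : Fin 4 → ℕ := fun i => encV (mat g *ᵥ decV (frame.getD i 0)) with ha
  have hdec : ∀ i, decV (a i) = mat g *ᵥ decV (frame.getD i 0) := fun i => decV_encV _
  have hqa : ∀ i, qB (a i) = true := fun i => by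
    have h := qp_decV (a i)
    rw [hdec, hq, qp_decV, hone i] at h
    revert h; cases qB (a i) <;> simp
  have hkey : ∀ i, a i ∈ keys := fun i => by
    have h := List.all_eq_true.1 mask_checks.2.1 (a i) (List.mem_range.2 (encV_lt _))
    rw [hqa i] at h
    simp only [Bool.not_true, Bool.false_or, List.any_eq_true, Nat.beq_eq] at h
    obtain ⟨x, hx, e⟩ := h
    exact e ▸ hx
  have hmask : ∀ i j : Fin 4, i < j → (maskAt (a i)).testBit (a j) = true := fun i j hij => by
    obtain ⟨hp1, hp2, hlt⟩ := hperp i j hij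
    obtain ⟨⟨b, m⟩, he, rfl⟩ := List.mem_map.1 (hkey i)
    rw [show maskAt _ = m from Nat.eq_of_beq_eq_true (List.all_eq_true.1 mask_checks.2.2 _ he)]
    have h := List.all_eq_true.1 (List.all_eq_true.1 mask_checks.1 _ he) (a j) (List.mem_range.2 (encV_lt _))
    have h1 : polB (a i) (a j) = false := by
      have h' := pol_decV (a i) (a j)
      rw [hdec, hdec, hp, pol_decV, hp1] at h'
      revert h'; cases polB (a i) (a j) <;> simp
    have h2 : polB (jB (a i)) (a j) = false := by
      have h' := pol_decV (jB (a i)) (a j)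
      rw [← jB_spec _ (encV_lt _), hdec, hdec, mulVec_mulVec, hJ, ← mulVec_mulVec, hp, jB_spec _ hlt,
        pol_decV, hp2] at h'
      revert h'; cases polB (jB (a i)) (a j) <;> simp
    rw [hqa j, h1, h2] at h
    simpa using h
  simp only [quads, tupleOf, List.mem_flatMap, List.mem_map, lev4, lev3, lev2, List.mem_filter]
  exact ⟨a 0, hkey 0, a 1, ⟨hkey 1, hmask 0 1 (by decide)⟩,
    a 2, ⟨⟨hkey 2, hmask 0 2 (by decide)⟩, hmask 1 2 (by decide)⟩,
    a 3, ⟨⟨⟨hkey 3, hmask 0 3 (by decide)⟩, hmask 1 3 (by decide)⟩, hmask 2 3 (by decide)⟩, rfl⟩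

theorem tuple_inj {M N : Matrix (Fin 4 ⊕ Fin 4) (Fin 4 ⊕ Fin 4) (ZMod 2)} (hM : jMat * M = M * jMat)
    (hN : jMat * N = N * jMat) (h : tupleOf M = tupleOf N) : M = N := by
  obtain ⟨hinv, hJ, -, -⟩ := frame_checks
  simp only [tupleOf, Prod.mk.injEq] at h
  have hi : ∀ i : Fin 4, M *ᵥ decV (frame.getD i 0) = N *ᵥ decV (frame.getD i 0) := fun i => by
    obtain ⟨h0, h1, h2, h3⟩ := h
    rw [← decV_encV (M *ᵥ _), ← decV_encV (N *ᵥ _)]
    fin_cases i <;> simp_all
  have hB : M * frMat = N * frMat := by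
    refine Matrix.ext fun r j => ?_
    have key : M *ᵥ (fun i => frMat i j) = N *ᵥ (fun i => frMat i j) := by
      rcases j with i | i
      · exact hi i
      · show M *ᵥ decV (frame.getD (4 + i) 0) = N *ᵥ decV (frame.getD (4 + i) 0)
        rw [hJ i, mulVec_mulVec, mulVec_mulVec, ← hM, ← hN, ← mulVec_mulVec, ← mulVec_mulVec, hi i]
    exact congrFun key r
  calc M = M * (frMat * frInv) := by rw [hinv, mul_one]
    _ = N * (frMat * frInv) := by rw [← Matrix.mul_assoc, hB, Matrix.mul_assoc]
    _ = N := by rw [hinv, mul_one]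

/-- The elements commuting with the element of order three. -/
def centW : Subgroup Cent := CW.subgroupOf Cent

theorem card_rho_le : Nat.card (centW.map rho) ≤ 77760 := by
  classical
  refine le_trans ?_ length_quads
  refine le_trans ?_ quads.toFinset_card_le
  rw [← Nat.card_eq_finsetCard]
  have hc : ∀ y : centW.map rho, jMat * mat y.1 = mat y.1 * jMat := by
    rintro ⟨_, g, hg, rfl⟩
    have e : wCent * g = g * wCent := Subtype.ext (mem_CW.1 (Subgroup.mem_subgroupOf.1 hg))
    rw [← rho_wCent, ← mat_mul, ← mat_mul, ← map_mul, ← map_mul, e]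
  refine Nat.card_le_card_of_injective (fun y => ⟨tupleOf (mat y.1), List.mem_toFinset.2 (tuple_mem (hc y))⟩)
    fun x y h => ?_
  exact Subtype.ext (mat_injective (tuple_inj (hc x) (hc y) (congrArg Subtype.val h)))

end CfsgLib.SuzSection
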