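import Cfsg.Agent.Lib.SuzSection.Section
import Cfsg.Agent.Lib.SuzSection.Unitary
import Cfsg.Agent.Lib.SuzSection.Extra
import Cfsg.Agent.Lib.SuzSection.MainChecks
import Cfsg.Agent.Lib.LargeFischer.AutO6

/-! The section satisfies the large extraspecial hypothesis of Suzuki type. -/

set_option autoImplicit false
set_option maxRecDepth 100000
set_option synthInstance.maxSize 20000
set_option synthInstance.maxHeartbeats 400000

namespace CfsgLib.SuzSection

open Cfsg CfsgLib CfsgLib.Leech CfsgLib.Leech.Stab CfsgLib.Leech.Aut CfsgLib.ConwayInvol Matrix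

/-- The centraliser of the sign change inside the centraliser of the element of order three. -/
def CT : Subgroup CW := Cent.subgroupOf CW

theorem mem_CT {g : CW} : g ∈ CT ↔ (g : Co0) ∈ Cent := Subgroup.mem_subgroupOf

/-- The sign change. -/
def tW : CW := ⟨tInv, tInv_mem_CW⟩

/-- The involution of the section. -/
def zS : Sec := QuotientGroup.mk tW

theorem tInv_not_kEl {j : ℕ} (hj : j < 6) : tInv ≠ kEl j := by
  have h := List.all_eq_true.1 wit_checks.2.2.1 j (List.mem_range.2 hj)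
  simp only [Bool.and_eq_true, Bool.not_eq_true'] at h
  exact ne_of_eqC valid_tInv (valid_kEl hj) h.2

theorem orderOf_zS : orderOf zS = 2 := by
  haveI : Fact (Nat.Prime 2) := ⟨Nat.prime_two⟩
  refine orderOf_eq_prime ?_ fun h => ?_
  · rw [zS, pow_two, ← QuotientGroup.mk_mul, show tW * tW = 1 from Subtype.ext tInv_sq, QuotientGroup.mk_one]
  · obtain ⟨j, hj, e⟩ := mem_radSub.1 ((QuotientGroup.eq_one_iff _).1 h)
    exact tInv_not_kEl hj e

/-- The centraliser of the involution. -/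
abbrev CZ : Subgroup Sec := Subgroup.centralizer ({zS} : Set Sec)

theorem exists_lift' {g : CW} (hg : (QuotientGroup.mk g : Sec) ∈ CZ) : g ∈ CT := by
  have h : (QuotientGroup.mk (g * tW) : Sec) = QuotientGroup.mk (tW * g) :=
    Subgroup.mem_centralizer_singleton_iff.1 hg
  obtain ⟨j, hj, e⟩ := mem_radSub.1 (QuotientGroup.eq.1 h)
  simp only [Subgroup.coe_mul, Subgroup.coe_inv] at e
  have e' : tInv * (g : Co0) = (g : Co0) * tInv * kEl j := by
    rw [← e]
    exact (mul_inv_cancel_left _ _).symm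
  have hconj : (g : Co0)⁻¹ * tInv * g = tInv * kEl j := by
    rw [mul_assoc, e', mul_assoc, inv_mul_cancel_left]
  have hsq : kEl j * kEl j = 1 := by
    have h1 : (g : Co0)⁻¹ * tInv * g * ((g : Co0)⁻¹ * tInv * g) = 1 := by
      rw [show (g : Co0)⁻¹ * tInv * g * ((g : Co0)⁻¹ * tInv * g) = (g : Co0)⁻¹ * (tInv * tInv) * g by group,
        tInv_sq, mul_one, inv_mul_cancel]
    rw [hconj, mul_assoc, ← mul_assoc (kEl j), ← kEl_central tInv_mem_CW j, mul_assoc, ← mul_assoc tInv,
      tInv_sq, one_mul] at h1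
    exact h1
  have h03 := List.all_eq_true.1 wit_checks.2.2.2.1 j (List.mem_range.2 hj)
  simp only [Bool.or_eq_true, Nat.beq_eq, Bool.not_eq_true'] at h03
  rcases h03 with (h0 | h3) | hne
  · subst h0
    rw [mem_CT, Subgroup.mem_centralizer_singleton_iff]
    simpa [kEl] using e'.symm
  · subst h3
    exfalso
    refine not_neg g ?_
    have hk : kEl 3 = negEl := by simp [kEl]
    rw [hk] at e'
    rw [e', ← negEl_comm, mul_assoc _ negEl negEl, sq_negEl, mul_one]
  · exact absurd hsq (ne_of_eqC (valid_mulN (valid_kEl hj) (valid_kEl hj)) valid_one hne)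

/-- The projection. -/
def projS : CT →* CZ :=
  ((QuotientGroup.mk' radSub).comp CT.subtype).codRestrict _ fun g => by
    rw [Subgroup.mem_centralizer_singleton_iff]
    show (QuotientGroup.mk (g.1 * tW) : Sec) = QuotientGroup.mk (tW * g.1)
    exact congrArg _ (Subtype.ext (Subgroup.mem_centralizer_singleton_iff.1 (mem_CT.1 g.2)))

theorem projS_surjective : Function.Surjective projS := fun x => by
  obtain ⟨g, hg⟩ := QuotientGroup.mk_surjective x.1
  exact ⟨⟨g, exists_lift' (hg ▸ x.2)⟩, Subtype.ext hg⟩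

theorem projS_eq_one {g : CT} : projS g = 1 ↔ ∃ j < 6, (g.1 : Co0) = kEl j := by
  rw [← mem_radSub, ← QuotientGroup.eq_one_iff, Subtype.ext_iff]
  rfl

theorem kEl_mem_Cent (j : ℕ) : kEl j ∈ Cent :=
  mul_mem (pow_mem negEl_mem_cent _) (pow_mem (el_mem_Cent (i := 0) (by decide)) _)

theorem six_le_ker : 6 ≤ Nat.card projS.ker := by
  let f : Fin 6 → projS.ker := fun j => ⟨⟨⟨kEl j, kEl_mem_CW j⟩, mem_CT.2 (kEl_mem_Cent j)⟩,
    MonoidHom.mem_ker.2 (projS_eq_one.2 ⟨j, j.2, rfl⟩)⟩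
  have hf : Function.Injective f := fun a b h =>
    Fin.ext (kEl_injective a.2 b.2 (congrArg (fun x : projS.ker => ((x.1.1 : CW) : Co0)) h))
  simpa using Nat.card_le_card_of_injective f hf

theorem QW_le_Cent {q : Co0} (hq : q ∈ QW) : q ∈ Cent := Qt_le hq.1

theorem negEl_mem_CW : negEl ∈ CW := mem_CW.2 (negEl_comm wEl)

/-- Passing between the two descriptions. -/
def toCent : CT →* centW where
  toFun g := ⟨⟨g.1.1, mem_CT.1 g.2⟩, Subgroup.mem_subgroupOf.2 g.1.2⟩
  map_one' := rfl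
  map_mul' _ _ := rfl

theorem card_CT_le : Nat.card CT ≤ 256 * 77760 := by
  set f := (rho.comp centW.subtype).comp toCent with hf
  have h := Subgroup.card_eq_card_quotient_mul_card_subgroup f.ker
  rw [Nat.card_congr (QuotientGroup.quotientKerEquivRange f).toEquiv] at h
  have h1 : Nat.card f.range ≤ 77760 := by
    refine le_trans (Subgroup.card_le_of_le ?_) card_rho_le
    rintro _ ⟨g, rfl⟩
    exact ⟨(toCent g).1, (toCent g).2, rfl⟩
  have hq : ∀ x : QW × Fin 2, negEl ^ (x.2 : ℕ) * x.1.1 ∈ CW := fun x =>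
    mul_mem (pow_mem negEl_mem_CW _) x.1.2.2
  have h2 : Nat.card f.ker ≤ 256 := by
    have hmem : ∀ g : f.ker, ∃ x : QW × Fin 2, (g.1.1 : Co0) = negEl ^ (x.2 : ℕ) * x.1.1 := fun g => by
      rcases rho_ker (g := (toCent g.1).1) (MonoidHom.mem_ker.1 g.2) with e | e
      · exact ⟨(⟨_, e, g.1.1.2⟩, 0), (show _ = negEl ^ 0 * _ by rw [pow_zero, one_mul]; rfl)⟩
      · refine ⟨(⟨_, e, mul_mem negEl_mem_CW g.1.1.2⟩, 1), ?_⟩
        show _ = negEl ^ 1 * (negEl * _)
        rw [pow_one, ← mul_assoc, sq_negEl, one_mul]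
        rfl
    choose x hx using hmem
    have hinj : Function.Injective x := fun a b e =>
      Subtype.ext (Subtype.ext (Subtype.ext ((hx a).trans (e ▸ (hx b).symm))))
    haveI : Finite QW := Finite.of_equiv _ qEquiv
    refine (Nat.card_le_card_of_injective x hinj).trans ?_
    rw [Nat.card_prod, card_QW, Nat.card_fin]
    norm_num
  rw [h, mul_comm]
  exact Nat.mul_le_mul h2 h1

theorem card_CZ_le : Nat.card CZ ≤ 128 * 25920 := by
  have h := Subgroup.card_eq_card_quotient_mul_card_subgroup projS.ker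
  rw [Nat.card_congr (QuotientGroup.quotientKerEquivOfSurjective projS projS_surjective).toEquiv] at h
  have := six_le_ker
  have := card_CT_le
  nlinarith

/-- The inclusion of the extraspecial group. -/
def qIncl : QW →* CT where
  toFun q := ⟨⟨q.1, q.2.2⟩, mem_CT.2 (QW_le_Cent q.2)⟩
  map_one' := rfl
  map_mul' _ _ := rfl

/-- The extraspecial subgroup of the centraliser. -/
def QS : Subgroup CZ := (projS.comp qIncl).range

theorem qProj_injective : Function.Injective (projS.comp qIncl) := by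
  rw [injective_iff_map_eq_one]
  intro q hq
  obtain ⟨j, hj, e⟩ := projS_eq_one.1 hq
  obtain ⟨i, rfl⟩ := qEquiv.surjective q
  have h := List.all_eq_true.1 wit_checks.2.2.2.2 j (List.mem_range.2 hj)
  rw [Bool.or_eq_true, Nat.beq_eq] at h
  rcases h with h | h
  · subst h
    exact Subtype.ext (e.trans (by simp [kEl]))
  · exfalso
    have hm : qC i ∈ qLit := by
      rw [qC, List.getD_eq_getElem _ _ (by rw [pairs_checks.2.1]; exact i.2)]
      exact List.getElem_mem _
    have h' := List.all_eq_true.1 h _ hm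
    rw [Bool.not_eq_true'] at h'
    exact ne_of_eqC (valid_qEl i) (valid_kEl hj) h' e

/-- The identification. -/
noncomputable def qsEquiv : QW ≃* QS := MonoidHom.ofInjective qProj_injective

theorem extraspecial_QS : Cfsg.IsExtraspecial 2 QS := by
  haveI : Finite QW := Finite.of_equiv _ qEquiv
  exact LargeXS.isExtraspecial_congr qsEquiv extraspecial_QW

theorem card_QS : Nat.card QS = 2 ^ 7 := by rw [← Nat.card_congr qsEquiv.toEquiv, card_QW]

/-! ### The action on the extraspecial group modulo its centre -/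

/-- Conjugation. -/
def cj (g : CT) : QW →* QW where
  toFun q := ⟨g.1.1 * q.1 * g.1.1⁻¹,
    ⟨Qt_normal_conj (g := ⟨g.1.1, mem_CT.1 g.2⟩) q.2.1,
      (show g.1.1 * q.1 * g.1.1⁻¹ ∈ CW from
        CW.mul_mem (CW.mul_mem g.1.2 q.2.2) (CW.inv_mem g.1.2))⟩⟩
  map_one' := Subtype.ext (by simp)
  map_mul' a b := Subtype.ext (by simp [mul_assoc])

theorem cj_mul (g h : CT) (q : QW) : cj (g * h) q = cj g (cj h q) :=
  Subtype.ext (by simp [cj, mul_assoc])

theorem cj_z (g : CT) : cj g (qEquiv 64) = qEquiv 64 := by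
  refine Subtype.ext ?_
  show g.1.1 * qEl 64 * g.1.1⁻¹ = qEl 64
  rw [qEl_64, ← neg_mul_tInv, ← mul_assoc g.1.1, negEl_comm, mul_assoc negEl,
    Subgroup.mem_centralizer_singleton_iff.1 (mem_CT.1 g.2), ← mul_assoc, mul_inv_cancel_right]

/-- The generator of a coordinate. -/
def bIdx (k : (Fin 2 ⊕ Fin 2) ⊕ Fin 2) : Fin 128 := Fin.ofNat 128 (1 <<< idx6 k)

theorem bIdx_spec : (∀ k, ((bIdx k : Fin 128) : ℕ) = 1 <<< idx6 k ∧
      ((bIdx k : Fin 128) : ℕ) ∈ [1, 2, 4, 8, 16, 32, 64] ∧ idx6 k < 6 ∧ dec6 (bIdx k : ℕ) = Pi.single k 1) ∧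
    ∀ k : Fin 128, (k : ℕ) ∈ [1, 2, 4, 8, 16, 32, 64] → k = 64 ∨ ∃ c, k = bIdx c := by decide +kernel

/-- The matrix of the action. -/
noncomputable def actMat (g : CT) : Matrix ((Fin 2 ⊕ Fin 2) ⊕ Fin 2) ((Fin 2 ⊕ Fin 2) ⊕ Fin 2) (ZMod 2) :=
  Matrix.of fun i k => piV (cj g (qEquiv (bIdx k))) i

theorem piV_cj (g : CT) (q : QW) : piV (cj g q) = actMat g *ᵥ piV q := by
  have h : q ∈ Subgroup.closure gens7 := gens_closure ▸ Subgroup.mem_top q
  induction h using Subgroup.closure_induction with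
  | mem a ha =>
    obtain ⟨k, hk, rfl⟩ := ha
    rcases bIdx_spec.2 k hk with rfl | ⟨c, rfl⟩
    · rw [cj_z, piV_qEl, show ((64 : Fin 128) : ℕ) = 64 from rfl, dec6_64, mulVec_zero]
    · rw [piV_qEl (bIdx c), (bIdx_spec.1 c).2.2.2, mulVec_single_one]
      rfl
  | one => rw [map_one, piV_one, mulVec_zero]
  | mul a b _ _ iha ihb => rw [map_mul, piV_mul, piV_mul, iha, ihb, mulVec_add]
  | inv a _ iha => rw [map_inv, piV_inv, piV_inv, iha]

theorem actMat_ext {g : CT} {M : Matrix ((Fin 2 ⊕ Fin 2) ⊕ Fin 2) ((Fin 2 ⊕ Fin 2) ⊕ Fin 2) (ZMod 2)}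
    (h : ∀ q, piV (cj g q) = M *ᵥ piV q) : actMat g = M := by
  refine Matrix.ext_of_mulVec_single fun k => ?_
  obtain ⟨q, hq⟩ := piV_surjective (Pi.single k 1)
  rw [← hq, ← piV_cj, h]

theorem actMat_mul (g h : CT) : actMat (g * h) = actMat g * actMat h :=
  actMat_ext fun q => by rw [cj_mul, piV_cj, piV_cj, mulVec_mulVec]

theorem actMat_one : actMat 1 = 1 :=
  actMat_ext fun q => by rw [one_mulVec]; exact congrArg piV (Subtype.ext (by simp [cj]))

theorem actMat_isometry (g : CT) (u : V6) :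
    quadFormMinus 2 (ZMod 2) 1 1 (actMat g *ᵥ u) = quadFormMinus 2 (ZMod 2) 1 1 u := by
  obtain ⟨q, rfl⟩ := piV_surjective u
  rw [← piV_cj]
  have h1 := congrArg (cj g) (sq_eq q)
  rw [map_mul, sq_eq (cj g q)] at h1
  rcases F2Quad.zmod_two_cases (quadFormMinus 2 (ZMod 2) 1 1 (piV (cj g q))) with e | e <;>
    rcases F2Quad.zmod_two_cases (quadFormMinus 2 (ZMod 2) 1 1 (piV q)) with e' | e' <;>
    (rw [e, e'] at h1; rw [e, e'])
  · rw [if_neg zero_ne_one, if_pos rfl, cj_z] at h1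
    exact absurd h1.symm qEquiv_64_ne
  · rw [if_neg zero_ne_one, if_pos rfl, map_one] at h1
    exact absurd h1 qEquiv_64_ne

/-- The orthogonal group. -/
abbrev G6 : Type := ↥(isometryGroup (ZMod 2) (quadFormMinus 2 (ZMod 2) 1 1))

/-- The action. -/
noncomputable def psi : CT →* G6 :=
  (({ toFun := actMat, map_one' := actMat_one, map_mul' := actMat_mul } :
    CT →* Matrix ((Fin 2 ⊕ Fin 2) ⊕ Fin 2) ((Fin 2 ⊕ Fin 2) ⊕ Fin 2) (ZMod 2)).toHomUnits).codRestrict _
    fun g u _ => actMat_isometry g u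

/-- The matrix of an orthogonal map. -/
def mat6 (g : G6) : Matrix ((Fin 2 ⊕ Fin 2) ⊕ Fin 2) ((Fin 2 ⊕ Fin 2) ⊕ Fin 2) (ZMod 2) :=
  (g : GL ((Fin 2 ⊕ Fin 2) ⊕ Fin 2) (ZMod 2))

theorem mat6_psi (g : CT) : mat6 (psi g) = actMat g := rfl

theorem mat6_injective : Function.Injective mat6 := fun _ _ h => Subtype.ext (Units.ext h)

theorem cj_trivial {g : CT} {j : ℕ} (e : (g.1 : Co0) = kEl j) (q : QW) : cj g q = q := by
  refine Subtype.ext ?_
  show g.1.1 * q.1 * g.1.1⁻¹ = q.1
  rw [e, ← kEl_central q.2.2 j, mul_inv_cancel_right]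

theorem ker_projS_le : projS.ker ≤ psi.ker := fun g hg => by
  obtain ⟨j, -, e⟩ := projS_eq_one.1 (MonoidHom.mem_ker.1 hg)
  rw [MonoidHom.mem_ker]
  refine mat6_injective ?_
  rw [mat6_psi, show mat6 1 = 1 from rfl]
  exact actMat_ext fun q => by rw [cj_trivial e, one_mulVec]

/-- The action of the centraliser of the involution. -/
noncomputable def psiBar : CZ →* G6 :=
  projS.liftOfRightInverse _ (Function.rightInverse_surjInv projS_surjective) ⟨psi, ker_projS_le⟩

theorem psiBar_proj (g : CT) : psiBar (projS g) = psi g := by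
  rw [psiBar, MonoidHom.liftOfRightInverse_comp_apply]

/-- The two generators used. -/
def hEl : ℕ → CT
  | 0 => ⟨⟨el 10, el_mem_CW (by decide)⟩, mem_CT.2 (el_mem_Cent (i := 10) (by decide))⟩
  | _ => ⟨⟨el 11, el_mem_CW (by decide)⟩, mem_CT.2 (el_mem_Cent (i := 11) (by decide))⟩

theorem valid_hEl {k : ℕ} (hk : k < 2) : Valid ((hEl k).1 : Co0) (cl (10 + k)) := by
  interval_cases k
  · exact valid_el 10
  · exact valid_el 11

/-- The matrices of the two generators on codes. -/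
def mM (k : ℕ) : Matrix ((Fin 2 ⊕ Fin 2) ⊕ Fin 2) ((Fin 2 ⊕ Fin 2) ⊕ Fin 2) (ZMod 2) :=
  Matrix.of fun i c => dec6 ((hImg.getD k []).getD (idx6 c) 0) i

theorem mM_spec : ∀ k : Fin 2, ∀ v : Fin 64, mM k *ᵥ dec6 v = dec6 (apM k v) ∧ apM k v < 64 := by decide +kernel

theorem actMat_hEl {k : ℕ} (hk : k < 2) : actMat (hEl k) = mM k := by
  refine Matrix.ext fun i c => ?_
  obtain ⟨hb, -, hb6, -⟩ := bIdx_spec.1 c
  have h := List.all_eq_true.1 (List.all_eq_true.1 hImg_check k (by interval_cases k <;> simp)) (idx6 c)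
    (List.mem_range.2 hb6)
  rw [Bool.and_eq_true, Nat.blt_eq] at h
  have e : cj (hEl k) (qEquiv (bIdx c)) = qEquiv ⟨_, h.1⟩ := by
    refine Subtype.ext ?_
    show (hEl k).1.1 * qEl (bIdx c) * (hEl k).1.1⁻¹ = qEl ⟨_, h.1⟩
    rw [mul_inv_eq_iff_eq_mul]
    refine eq_of_eqC (valid_mulN (valid_hEl hk) (valid_qEl _)) (valid_mulN (valid_qEl ⟨_, h.1⟩) (valid_hEl hk)) ?_
    rw [hb]
    exact h.2
  show piV (cj (hEl k) (qEquiv (bIdx c))) i = _
  rw [e, piV_qEl]
  rfl

/-- The element of a word. -/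
def wordEl : List ℕ → CT
  | [] => 1
  | k :: l => hEl k * wordEl l

theorem act_word : ∀ {l : List ℕ}, (∀ k ∈ l, k < 2) → ∀ {v : ℕ}, v < 64 →
    mat6 (psi (wordEl l)) *ᵥ dec6 v = dec6 (apW l v) ∧ apW l v < 64
  | [], _, v, hv => ⟨by rw [mat6_psi, show wordEl [] = 1 from rfl, actMat_one, one_mulVec]; rfl, hv⟩
  | k :: l, h, v, hv => by
    have hk : k < 2 := h k (by simp)
    obtain ⟨h1, h2⟩ := act_word (l := l) (fun x hx => h x (List.mem_cons_of_mem k hx)) hv
    obtain ⟨h3, h4⟩ := mM_spec ⟨k, hk⟩ ⟨_, h2⟩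
    refine ⟨?_, h4⟩
    rw [mat6_psi] at h1 ⊢
    rw [show wordEl (k :: l) = hEl k * wordEl l from rfl, actMat_mul, ← mulVec_mulVec, h1, actMat_hEl hk, h3]
    rfl

/-- The stabiliser of a code. -/
def stab6 (b : ℕ) : Subgroup G6 where
  carrier := {g | mat6 g *ᵥ dec6 b = dec6 b}
  one_mem' := one_mulVec _
  mul_mem' := fun {g h} hg hh => by
    show (mat6 g * mat6 h) *ᵥ dec6 b = dec6 b
    rw [← mulVec_mulVec, hh, hg]
  inv_mem' := fun {g} hg => by
    show mat6 g⁻¹ *ᵥ dec6 b = dec6 b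
    have e : mat6 g⁻¹ * mat6 g = 1 :=
      congrArg (fun x : G6 => mat6 x) (inv_mul_cancel g)
    conv_lhs => rw [← show mat6 g *ᵥ dec6 b = dec6 b from hg]
    rw [mulVec_mulVec, e, one_mulVec]

theorem dec6_inj : ∀ a b : Fin 64, dec6 a = dec6 b → a = b := by decide +kernel

theorem level_step (H : Subgroup G6) (b : ℕ) (hb : b < 64) (L : List (List ℕ))
    (hL : ∀ l ∈ L, (∀ k ∈ l, k < 2) ∧ psi (wordEl l) ∈ H) (hnd : (L.map fun l => apW l b).Nodup) :
    L.length * Nat.card ↥(H ⊓ stab6 b) ≤ Nat.card H := by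
  let f : Fin L.length × ↥(H ⊓ stab6 b) → H := fun x =>
    ⟨psi (wordEl L[x.1]) * x.2.1, mul_mem (hL _ (List.getElem_mem _)).2 x.2.2.1⟩
  have hf : Function.Injective f := fun x y e => by
    have e1 : psi (wordEl L[x.1]) * x.2.1 = psi (wordEl L[y.1]) * y.2.1 := congrArg Subtype.val e
    have key : ∀ z : Fin L.length × ↥(H ⊓ stab6 b),
        mat6 (psi (wordEl L[z.1]) * z.2.1) *ᵥ dec6 b = dec6 (apW L[z.1] b) := fun z => by
      show (mat6 (psi (wordEl L[z.1])) * mat6 z.2.1) *ᵥ dec6 b = _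
      rw [← mulVec_mulVec, z.2.2.2]
      exact (act_word (hL _ (List.getElem_mem _)).1 hb).1
    have e2 := key x
    rw [e1, key y] at e2
    have hi : x.1 = y.1 := by
      have h3 : apW L[x.1] b = apW L[y.1] b := (congrArg Fin.val
        (dec6_inj ⟨_, (act_word (hL _ (List.getElem_mem _)).1 hb).2⟩
          ⟨_, (act_word (hL _ (List.getElem_mem _)).1 hb).2⟩ e2)).symm
      have hg : (L.map fun l => apW l b)[x.1.1]'(by simp) = (L.map fun l => apW l b)[y.1.1]'(by simp) := by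
        simpa using h3
      exact Fin.ext (hnd.getElem_inj_iff.1 hg)
    refine Prod.ext hi (Subtype.ext (mul_left_cancel (a := psi (wordEl L[x.1])) (e1.trans ?_)))
    simp [hi]
  have h := Nat.card_le_card_of_injective f hf
  rwa [Nat.card_prod, Nat.card_fin] at h

/-- The fixers of the base points. -/
noncomputable def levH : List ℕ → Subgroup G6
  | [] => psi.range
  | b :: l => levH l ⊓ stab6 b

theorem psi_mem_levH {x : List ℕ} (hx : ∀ k ∈ x, k < 2) :
    ∀ {bs : List ℕ}, (∀ b ∈ bs, b < 64) → (∀ b ∈ bs, apW x b = b) → psi (wordEl x) ∈ levH bs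
  | [], _, _ => ⟨_, rfl⟩
  | b :: l, h1, h2 =>
    ⟨psi_mem_levH hx (fun c hc => h1 c (by simp [hc])) fun c hc => h2 c (by simp [hc]), by
      show mat6 (psi (wordEl x)) *ᵥ dec6 b = dec6 b
      rw [(act_word hx (h1 b (by simp))).1, h2 b (by simp)]⟩

theorem chain_bound : 25920 ≤ Nat.card psi.range := by
  obtain ⟨hlen, hlev, hnd⟩ := chain_checks
  have hlen' : chain.length = 4 := by simpa using congrArg List.length hlen
  simp only [List.all_eq_true, List.mem_range, Bool.and_eq_true, Nat.blt_eq, decide_eq_true_eq, Nat.beq_eq] at hlev hnd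
  have hbase : ∀ n, ∀ b ∈ prevPts n, b < 64 := fun n b hb => by
    obtain ⟨e, he, rfl⟩ := List.mem_map.1 hb
    obtain ⟨i, hi, rfl⟩ := List.getElem_of_mem (List.mem_of_mem_take he)
    have := (hlev i (by omega)).1
    rwa [List.getD_eq_getElem _ _ hi] at this
  have hstep : ∀ n < 4, ((chain.map fun e => e.2.length).getD n 0) *
      Nat.card ↥(levH (prevPts n).reverse ⊓ stab6 (chain.getD n (0, [])).1) ≤
        Nat.card (levH (prevPts n).reverse) := fun n hn => by
    obtain ⟨hb, hw⟩ := hlev n hn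
    have hnd' := hnd (chain.getD n (0, [])) (by
      rw [List.getD_eq_getElem _ _ (by omega)]; exact List.getElem_mem _)
    rw [List.getD_eq_getElem _ _ (by simp; omega), List.getElem_map, ← List.getD_eq_getElem _ (0, [])]
    refine level_step _ _ hb _ (fun l hl => ⟨(hw l hl).1, psi_mem_levH (hw l hl).1
      (fun b hb' => hbase n b (List.mem_reverse.1 hb')) fun b hb' => (hw l hl).2 b (List.mem_reverse.1 hb')⟩) hnd'
  have hsucc : ∀ n < 4, levH (prevPts (n + 1)).reverse =
      levH (prevPts n).reverse ⊓ stab6 (chain.getD n (0, [])).1 := fun n hn => by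
    rw [prevPts, prevPts, List.take_succ_eq_append_getElem (by omega), List.map_append, List.map_singleton,
      List.reverse_append, List.reverse_singleton, List.singleton_append, levH,
      List.getD_eq_getElem _ _ (by omega)]
  have a0 := hstep 0 (by norm_num)
  have a1 := hstep 1 (by norm_num)
  have a2 := hstep 2 (by norm_num)
  have a3 := hstep 3 (by norm_num)
  rw [← hsucc 0 (by norm_num), hlen] at a0
  rw [← hsucc 1 (by norm_num), hlen] at a1
  rw [← hsucc 2 (by norm_num), hlen] at a2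
  rw [← hsucc 3 (by norm_num), hlen] at a3
  simp only [List.getD_cons_zero, List.getD_cons_succ] at a0 a1 a2 a3
  have a4 : 0 < Nat.card (levH (prevPts 4).reverse) := Nat.card_pos
  have e0 : levH (prevPts 0).reverse = psi.range := rfl
  rw [e0] at a0
  simp only [Nat.zero_add, Nat.reduceAdd] at a0 a1 a2 a3
  omega

theorem range_psiBar_eq : psiBar.range = psi.range := by
  ext w
  constructor
  · rintro ⟨x, rfl⟩
    obtain ⟨g, rfl⟩ := projS_surjective x
    exact ⟨g, (psiBar_proj g).symm⟩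
  · rintro ⟨g, rfl⟩
    exact ⟨projS g, psiBar_proj g⟩

theorem QS_le_ker : QS ≤ psiBar.ker := by
  rintro _ ⟨q, rfl⟩
  rw [MonoidHom.mem_ker, MonoidHom.comp_apply, psiBar_proj]
  refine mat6_injective ?_
  rw [mat6_psi, show mat6 1 = 1 from rfl]
  refine actMat_ext fun x => ?_
  show piV (cj (qIncl q) x) = _
  have e : cj (qIncl q) x = q * x * q⁻¹ := Subtype.ext rfl
  rw [e, piV_mul, piV_mul, piV_inv, one_mulVec]
  funext j
  simp only [Pi.add_apply]
  linear_combination (piV q j) * (CharTwo.two_eq_zero (R := ZMod 2))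

theorem ker_and_range : psiBar.ker = QS ∧ Nat.card psiBar.range = 25920 := by
  have h := Subgroup.card_eq_card_quotient_mul_card_subgroup psiBar.ker
  rw [Nat.card_congr (QuotientGroup.quotientKerEquivRange psiBar).toEquiv] at h
  have h1 : 25920 ≤ Nat.card psiBar.range := by rw [range_psiBar_eq]; exact chain_bound
  have h2 := Subgroup.card_le_of_le QS_le_ker
  rw [card_QS] at h2
  have h3 := card_CZ_le
  have hr : Nat.card psiBar.range = 25920 := by nlinarith
  refine ⟨(Subgroup.eq_of_le_of_card_ge QS_le_ker ?_).symm, hr⟩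
  rw [card_QS]
  nlinarith

theorem card_G6 : Nat.card G6 = 51840 := by
  rw [Nat.card_congr (CfsgLib.Classical.Quad.isometryEquivModel CfsgLib.SuzType.coord6 CfsgLib.SuzType.coord6_spec).toEquiv,
    CfsgLib.SuzType.card_orth6]

theorem range_psiBar : psiBar.range = Omega (ZMod 2) (quadFormMinus 2 (ZMod 2) 1 1) := by
  have hr := ker_and_range.2
  have hi : psiBar.range.index = 2 := by
    have h := Subgroup.card_mul_index psiBar.range
    rw [hr, card_G6] at h
    omega
  refine (Subgroup.eq_of_le_of_card_ge ?_ (le_of_eq (hr.trans CfsgLib.SuzType.card_omega6.symm))).symm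
  refine Subgroup.commutator_le.2 fun a _ b _ => ?_
  rw [commutatorElement_def, Subgroup.mul_mem_iff_of_index_two hi, Subgroup.mul_mem_iff_of_index_two hi,
    Subgroup.mul_mem_iff_of_index_two hi, inv_mem_iff, inv_mem_iff]
  tauto

/-- The action onto the commutator subgroup. -/
noncomputable def psiOmega : CZ →* Omega (ZMod 2) (quadFormMinus 2 (ZMod 2) 1 1) :=
  psiBar.codRestrict _ fun x => range_psiBar ▸ ⟨x, rfl⟩

theorem psiOmega_surjective : Function.Surjective psiOmega := fun w => by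
  obtain ⟨x, hx⟩ : w.1 ∈ psiBar.range := range_psiBar.symm ▸ w.2
  exact ⟨x, Subtype.ext hx⟩

theorem ker_psiOmega : psiOmega.ker = QS := by
  rw [psiOmega, MonoidHom.ker_codRestrict, ker_and_range.1]

theorem omega6_simple : IsSimpleGroup (Omega (ZMod 2) (quadFormMinus 2 (ZMod 2) 1 1)) ∧
    Subgroup.center (Omega (ZMod 2) (quadFormMinus 2 (ZMod 2) 1 1)) = ⊥ := by
  open CfsgLib.Recog.GF4 in
  obtain ⟨e⟩ := CfsgLib.Classical.SmallIso.nonempty_pomega6_minus_equiv (F := ZMod 2) (K := K4) (q := 2)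
    (by simp) (by rw [card_K4]; norm_num) (1 : ZMod 2) 1
    (show CfsgLib.Classical.Quad.IsAniso (1 : ZMod 2) 1 by unfold CfsgLib.Classical.Quad.IsAniso; decide)
  have hc : Nat.card (Subgroup.center (Omega (ZMod 2) (quadFormMinus 2 (ZMod 2) 1 1))) = 1 := by
    have h := Subgroup.card_eq_card_quotient_mul_card_subgroup
      (Subgroup.center (Omega (ZMod 2) (quadFormMinus 2 (ZMod 2) 1 1)))
    rw [CfsgLib.SuzType.card_omega6, Nat.card_congr e.toEquiv, CfsgLib.LargeFischer.card_psu42] at h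
    omega
  have hz := Subgroup.eq_bot_of_card_eq _ hc
  refine ⟨?_, hz⟩
  haveI : IsSimpleGroup (Cfsg.PSU 4 CfsgLib.Recog.GF4.K4 2) :=
    CfsgLib.Classical.Herm.isSimpleGroup_psu (by rw [CfsgLib.Recog.GF4.card_K4]; norm_num) (by norm_num) (by norm_num)
  exact ((MulEquiv.ofBijective (QuotientGroup.mk'
      (Subgroup.center (Omega (ZMod 2) (quadFormMinus 2 (ZMod 2) 1 1))))
      ⟨by rw [← MonoidHom.ker_eq_bot_iff, QuotientGroup.ker_mk', hz], QuotientGroup.mk'_surjective _⟩).trans e).isSimpleGroup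

theorem genFitting_CZ : Cfsg.generalizedFittingSubgroup CZ = QS := by
  haveI : Fact (Nat.Prime 2) := ⟨Nat.prime_two⟩
  obtain ⟨hsimple, hcen⟩ := omega6_simple
  have hn : QS.Normal := ker_psiOmega ▸ psiOmega.normal_ker
  have hle : QS ≤ Cfsg.fittingSubgroup CZ :=
    Components.le_fitting_of_normal hn (IsPGroup.of_card card_QS).isNilpotent
  have hge : Cfsg.fittingSubgroup CZ ≤ QS := by
    rw [← ker_psiOmega, ← Subgroup.map_eq_bot_iff]
    have hnorm : ((Cfsg.fittingSubgroup CZ).map psiOmega).Normal :=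
      Subgroup.Normal.map inferInstance _ psiOmega_surjective
    refine hnorm.eq_bot_or_eq_top.resolve_right fun htop => ?_
    haveI : Group.IsNilpotent ↥(Cfsg.fittingSubgroup CZ) := Solvable.fittingSubgroup_isNilpotent _
    haveI : Group.IsNilpotent ↥(Omega (ZMod 2) (quadFormMinus 2 (ZMod 2) 1 1)) :=
      Group.nilpotent_of_surjective (psiOmega.comp (Cfsg.fittingSubgroup CZ).subtype) (fun w => by
        obtain ⟨y, hy, e⟩ : w ∈ (Cfsg.fittingSubgroup CZ).map psiOmega := htop ▸ Subgroup.mem_top w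
        exact ⟨⟨y, hy⟩, e⟩)
    haveI := hsimple
    exact Group.IsNilpotent.center_ne_bot _ hcen
  have hfit := le_antisymm hge hle
  refine (Components.genFitting_eq_fitting_of_layer_eq_bot ?_).trans hfit
  refine Components.centralizer_fitting_le_iff.1 ?_
  rw [hfit, ← ker_and_range.1]
  intro x hx
  obtain ⟨g, rfl⟩ := projS_surjective x
  rw [MonoidHom.mem_ker, psiBar_proj]
  refine mat6_injective ?_
  rw [mat6_psi, show mat6 1 = 1 from rfl]
  refine actMat_ext fun q => ?_
  rw [one_mulVec]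
  congr 1
  have hmem : projS (qIncl q) ∈ psiBar.ker := QS_le_ker ⟨q, rfl⟩
  have h := hx _ hmem
  refine qProj_injective ?_
  show projS (qIncl (cj g q)) = projS (qIncl q)
  rw [show qIncl (cj g q) = g * qIncl q * g⁻¹ from Subtype.ext (Subtype.ext rfl), map_mul, map_mul, ← h,
    map_inv, mul_inv_cancel_right]

theorem satisfies_hypothesis : ∃ z : Sec, orderOf z = 2 ∧
    ∃ (Q : Subgroup (Subgroup.centralizer ({z} : Set Sec))) (_ : Q.Normal),
      Cfsg.generalizedFittingSubgroup (Subgroup.centralizer ({z} : Set Sec)) = Q ∧ Cfsg.IsExtraspecial 2 Q ∧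
      Nat.card Q = 2 ^ 7 ∧ Nonempty ((Subgroup.centralizer ({z} : Set Sec)) ⧸ Q ≃*
        Cfsg.Omega (ZMod 2) (Cfsg.quadFormMinus 2 (ZMod 2) 1 1)) ∧
      ∃ g : Sec, (∃ hq : g * z * g⁻¹ ∈ Subgroup.centralizer ({z} : Set Sec),
        (⟨g * z * g⁻¹, hq⟩ : Subgroup.centralizer ({z} : Set Sec)) ∈ Q) ∧ g * z * g⁻¹ ≠ z := by
  have hn : QS.Normal := ker_psiOmega ▸ psiOmega.normal_ker
  refine ⟨zS, orderOf_zS, QS, hn, genFitting_CZ, extraspecial_QS, card_QS,
    ⟨(QuotientGroup.quotientMulEquivOfEq ker_psiOmega.symm).trans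
      (QuotientGroup.quotientKerEquivOfSurjective psiOmega psiOmega_surjective)⟩, ?_⟩
  obtain ⟨hlt, hconj, hne, -⟩ := wit_checks
  set q : QW := qEquiv ⟨witQ, hlt⟩
  let h : CW := ⟨el 12, el_mem_CW (by decide)⟩
  have he : h * tW = (qIncl q).1 * h := Subtype.ext
    (eq_of_eqC (valid_mulN (valid_el 12) valid_tInv) (valid_mulN (valid_qEl ⟨witQ, hlt⟩) (valid_el 12)) hconj)
  have e : (QuotientGroup.mk h : Sec) * zS * (QuotientGroup.mk h)⁻¹ = (projS (qIncl q)).1 := by
    rw [mul_inv_eq_iff_eq_mul, zS, ← QuotientGroup.mk_mul, he]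
    rfl
  refine ⟨QuotientGroup.mk h, ⟨e ▸ (projS (qIncl q)).2, ?_⟩, ?_⟩
  · exact ⟨q, Subtype.ext e.symm⟩
  · intro h'
    rw [e] at h'
    have h2 : (QuotientGroup.mk ((qIncl q).1 * tW) : Sec) = 1 := by
      rw [QuotientGroup.mk_mul]
      show (projS (qIncl q)).1 * zS = 1
      rw [h', ← pow_two, ← orderOf_zS, pow_orderOf_eq_one]
    obtain ⟨j, hj, e2⟩ := mem_radSub.1 ((QuotientGroup.eq_one_iff _).1 h2)
    have h3 := List.all_eq_true.1 hne j (List.mem_range.2 hj)
    simp only [Bool.and_eq_true, Bool.not_eq_true'] at h3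
    exact ne_of_eqC (valid_mulN (valid_qEl ⟨witQ, hlt⟩) valid_tInv) (valid_kEl hj) h3.1 e2

end CfsgLib.SuzSection
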