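import Cfsg.Agent.Lib.SuzSection.Base
import Cfsg.Agent.Lib.ConwayInvol.Main

/-! Packed columns of monomial elements, and the sign change in the centraliser. -/

set_option autoImplicit false
set_option maxRecDepth 100000

namespace CfsgLib.SuzSection

open Cfsg CfsgLib CfsgLib.Leech CfsgLib.Leech.Stab CfsgLib.Leech.Aut CfsgLib.ConwayInvol

/-- The columns of a monomial element given by a table and a mask. -/
def monoC (t : ℕ → ℕ) (m : ℕ) : List ℕ :=
  (List.range 24).map fun i => packL (lin ((List.range 24).map fun q =>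
    bif Nat.beq (t q) i then (bif m.testBit q then -8 else 8) else 0))

theorem valid_monoC {τ : Equiv.Perm GolayPt} {hτ : τ ∈ M24} {m : ℕ} {hc : Golay.toWord m ∈ golayCode}
    {t : ℕ → ℕ} (ht : ∀ q < 24, Golay.bit (τ (Golay.pt q)) = t q) :
    Valid (monoEl τ hτ (Golay.toWord m) hc) (monoC t m) := by
  refine valid_iff.2 ⟨by simp [monoC], fun i h => ?_⟩
  have hi : i < 24 := by simpa [monoC] using h
  simp only [monoC, List.getElem_map, List.getElem_range]
  have e : (List.range 24).map (fun q => bif Nat.beq (t q) i then (bif m.testBit q then (-8 : ℤ) else 8) else 0) =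
      listOf ((monoEl τ hτ (Golay.toWord m) hc • e8L (Golay.pt i) : leechLattice) : GolayPt → ℤ) := by
    rw [coe_monoEl_smul]
    refine List.map_congr_left fun q hq => ?_
    rw [List.mem_range] at hq
    simp only [monoFun, e8L, e8, Golay.toWord, Golay.bit_pt hq, ht q hq, Golay.bit_pt hi]
    by_cases h1 : t q = i
    · subst h1
      rw [Nat.beq_refl]
      cases m.testBit q <;> simp
    · rw [show Nat.beq (t q) i = false from Bool.eq_false_iff.2 fun h => h1 (Nat.eq_of_beq_eq_true h)]
      cases m.testBit q <;> simp [h1]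
  rw [e]
  exact rep_packL (by rw [sqNorm_smul]; simp [e8L, sqNorm_e8])

/-- The columns of the sign change. -/
def tC : List ℕ := monoC id octMask

theorem valid_tInv : Valid tInv tC := valid_monoC (hc := octWord_mem) fun q hq => Golay.bit_pt hq

theorem valid_coEl : Valid coEl (monoC id (16777215 ^^^ octMask)) :=
  valid_monoC (hc := coWord_mem) fun q hq => Golay.bit_pt hq

theorem tInv_checks :
    ([0, 10, 11].all fun i => eqC (mulN tC (cl i)) (mulN (cl i) tC)) = true ∧
    eqC (mulN negLit tC) (monoC id (16777215 ^^^ octMask)) = true ∧ eqC (mulN tC tC) idC = true := by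
  decide +kernel

theorem el_mem_Cent {i : Fin 13} (hi : (i : ℕ) ∈ [0, 10, 11]) : el i ∈ Cent :=
  Subgroup.mem_centralizer_singleton_iff.2 (eq_of_eqC (valid_mulN valid_tInv (valid_el i))
    (valid_mulN (valid_el i) valid_tInv) (List.all_eq_true.1 tInv_checks.1 _ hi)).symm

theorem tInv_mem_CW : tInv ∈ CW :=
  mem_CW.2 (comm_tInv ⟨wEl, el_mem_Cent (i := 0) (by decide)⟩).symm

theorem neg_mul_tInv : negEl * tInv = coEl :=
  eq_of_eqC (valid_mulN valid_neg valid_tInv) valid_coEl tInv_checks.2.1

end CfsgLib.SuzSection
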