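import Cfsg.Agent.Lib.SuzSection.Bound
import Cfsg.Agent.Lib.SuzSection.HomChecks
import Cfsg.Agent.Lib.CosetEnum.Suz.Simple

/-! The presented Suzuki group is the centraliser modulo the central product. -/

set_option autoImplicit false
set_option maxRecDepth 100000

namespace CfsgLib.SuzSection

open Cfsg CfsgLib CfsgLib.Leech CfsgLib.Leech.Stab CfsgLib.Leech.Aut

/-- The subgroup generated by the element and the centre, inside the centraliser. -/
def radSub : Subgroup CW := (aSub ⊔ Subgroup.center Co0).subgroupOf CW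

theorem mem_radSub {g : CW} : g ∈ radSub ↔ ∃ j < 6, (g : Co0) = kEl j := by
  rw [radSub, Subgroup.mem_subgroupOf]
  exact mem_AZ_iff

theorem kEl_central {g : Co0} (hg : g ∈ CW) (j : ℕ) : g * kEl j = kEl j * g :=
  ((show Commute g negEl from negEl_comm g).pow_right _).mul_right
    ((show Commute g wEl from (mem_CW.1 hg).symm).pow_right _)

instance radSub_normal : radSub.Normal where
  conj_mem n hn g := by
    obtain ⟨j, -, e⟩ := mem_radSub.1 hn
    have h : g * n = n * g := Subtype.ext (by
      show (g : Co0) * (n : Co0) = (n : Co0) * (g : Co0)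
      rw [e, kEl_central g.2])
    rwa [h, mul_inv_cancel_right]

/-- The section. -/
abbrev Sec : Type := CW ⧸ radSub

theorem six_le_card : 6 ≤ Nat.card radSub := by
  let f : Fin 6 → radSub := fun j => ⟨⟨kEl j, kEl_mem_CW j⟩, mem_radSub.2 ⟨j, j.2, rfl⟩⟩
  have hf : Function.Injective f := fun a b h =>
    Fin.ext (kEl_injective a.2 b.2 (congrArg (fun x : radSub => ((x.1 : CW) : Co0)) h))
  simpa using Nat.card_le_card_of_injective f hf

theorem card_Sec_le : Nat.card Sec ≤ 448345497600 := by
  have h := Subgroup.card_eq_card_quotient_mul_card_subgroup radSub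
  have h2 := card_CW_le
  have h3 := six_le_card
  rw [h] at h2
  nlinarith

/-- The image of a letter. -/
def imEl : ℕ → CW
  | 0 => ⟨el 1, el_mem_CW (by decide)⟩
  | 1 => ⟨el 2, el_mem_CW (by decide)⟩
  | 2 => ⟨el 3, el_mem_CW (by decide)⟩
  | 3 => ⟨el 4, el_mem_CW (by decide)⟩
  | 4 => ⟨el 5, el_mem_CW (by decide)⟩
  | 5 => ⟨el 6, el_mem_CW (by decide)⟩
  | 6 => ⟨el 7, el_mem_CW (by decide)⟩
  | _ => 1

theorem valid_im {x : ℕ} (hx : x < 7) : Valid (imEl x : Co0) (cl (x + 1)) := by
  interval_cases x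
  · exact valid_el 1
  · exact valid_el 2
  · exact valid_el 3
  · exact valid_el 4
  · exact valid_el 5
  · exact valid_el 6
  · exact valid_el 7

theorem valid_word : ∀ {l : List ℕ}, (∀ x ∈ l, x < 7) →
    Valid (((l.map imEl).prod : CW) : Co0) (wordC l)
  | [], _ => by
    have h : Valid (kEl 0) (kC 0) := valid_kEl (by norm_num)
    simpa [kEl, wordC] using h
  | x :: l, h => by
    rw [List.map_cons, List.prod_cons, Subgroup.coe_mul, wordC]
    exact valid_mulN (valid_im (h x (by simp))) (valid_word fun y hy => h y (by simp [hy]))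

theorem word_mem {l : List ℕ} (hl : l ∈ CfsgLib.CosetEnum.Suz.ls) :
    (l.map imEl).prod ∈ radSub ∧ ∀ x ∈ l, x < 7 := by
  have h := List.all_eq_true.1 rel_checks l hl
  simp only [Bool.and_eq_true, List.all_eq_true, Nat.blt_eq, List.any_eq_true, List.mem_range] at h
  obtain ⟨h7, j, hj, he⟩ := h
  exact ⟨mem_radSub.2 ⟨j, hj, eq_of_eqC (valid_word h7) (valid_kEl hj) he⟩, h7⟩

/-- The homomorphism on the free group. -/
def freeHom : FreeGroup Cfsg.Spor.Suz.Gen →* Sec :=
  FreeGroup.lift fun a => QuotientGroup.mk (imEl (CfsgLib.CosetEnum.Suz.idx a))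

theorem freeHom_gF {x : ℕ} (hx : x < 7) :
    freeHom (CfsgLib.CosetEnum.Suz.gF x) = QuotientGroup.mk (imEl x) := by
  interval_cases x <;> simp [freeHom, CfsgLib.CosetEnum.Suz.gF, CfsgLib.CosetEnum.Suz.idx]

theorem prod_one {l : List ℕ} (hl : l ∈ CfsgLib.CosetEnum.Suz.ls) :
    (l.map fun x => freeHom (CfsgLib.CosetEnum.Suz.gF x)).prod = 1 := by
  obtain ⟨hm, h7⟩ := word_mem hl
  rw [List.map_congr_left fun x hx => freeHom_gF (h7 x hx)]
  have e := map_list_prod (QuotientGroup.mk' radSub) (l.map imEl)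
  rw [List.map_map] at e
  exact e.symm.trans ((QuotientGroup.eq_one_iff _).2 hm)

theorem hinv : ∀ x < 16, freeHom (CfsgLib.CosetEnum.Suz.gF (CfsgLib.CosetEnum.linv 18364758544493064720 x)) =
    (freeHom (CfsgLib.CosetEnum.Suz.gF x))⁻¹ := by
  intro x hx
  rw [CfsgLib.CosetEnum.Suz.linv_eq x hx]
  by_cases h7 : x < 7
  · have hl : [x, x] ∈ CfsgLib.CosetEnum.Suz.ls := by interval_cases x <;> decide
    have h := prod_one hl
    simp only [List.map_cons, List.map_nil, List.prod_cons, List.prod_nil, mul_one] at h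
    exact eq_inv_of_mul_eq_one_left h
  · have e : CfsgLib.CosetEnum.Suz.gF x = 1 := by interval_cases x <;> first | omega | rfl
    rw [e, map_one, inv_one]

/-- The homomorphism from the presented group. -/
def suzHom : Cfsg.Spor.Suz →* Sec :=
  PresentedGroup.toGroup (CfsgLib.CosetEnum.Suz.translation.relator_eq_one freeHom hinv fun _ hl => prod_one hl)

theorem suzHom_injective : Function.Injective suzHom := by
  rw [← MonoidHom.ker_eq_bot_iff]
  haveI := CfsgLib.CosetEnum.Suz.Simple.isSimple
  refine (Subgroup.Normal.eq_bot_or_eq_top inferInstance).resolve_right fun ht => ?_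
  have h1 : suzHom (PresentedGroup.of Cfsg.Spor.Suz.Gen.a) = 1 :=
    MonoidHom.mem_ker.1 (ht ▸ Subgroup.mem_top _)
  have h2 : (QuotientGroup.mk (imEl 0) : Sec) = 1 := by
    have e : suzHom (PresentedGroup.of Cfsg.Spor.Suz.Gen.a) = (QuotientGroup.mk (imEl 0) : Sec) :=
      PresentedGroup.toGroup.of (f := fun a => (QuotientGroup.mk (imEl (CfsgLib.CosetEnum.Suz.idx a)) : Sec)) _
    exact e.symm.trans h1
  obtain ⟨j, hj, e⟩ := mem_radSub.1 ((QuotientGroup.eq_one_iff _).1 h2)
  have h3 := List.all_eq_true.1 im_checks.2 j (List.mem_range.2 hj)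
  rw [Bool.not_eq_true'] at h3
  exact ne_of_eqC (valid_el 1) (valid_kEl hj) h3 e

theorem suzHom_bijective : Function.Bijective suzHom := by
  haveI : Finite Cfsg.Spor.Suz := CfsgLib.CosetEnum.Suz.finite
  refine (Nat.bijective_iff_injective_and_card _).2 ⟨suzHom_injective,
    le_antisymm (Nat.card_le_card_of_injective _ suzHom_injective) ?_⟩
  rw [CfsgLib.CosetEnum.Suz.card_group]
  exact card_Sec_le

theorem card_Sec : Nat.card Sec = 448345497600 := by
  rw [← Nat.card_eq_of_bijective _ suzHom_bijective, CfsgLib.CosetEnum.Suz.card_group]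

theorem isSimple_Sec : IsSimpleGroup Sec :=
  haveI := CfsgLib.CosetEnum.Suz.Simple.isSimple
  (MulEquiv.ofBijective suzHom suzHom_bijective).symm.isSimpleGroup

theorem not_comm_Sec : ¬ IsMulCommutative Sec := fun h => by
  haveI := isSimple_Sec
  letI : CommGroup Sec := { (inferInstance : Group Sec) with mul_comm := fun a b => h.is_comm.comm a b }
  have hp : (Nat.card Sec).Prime := IsSimpleGroup.prime_card
  rw [card_Sec] at hp
  norm_num at hp

end CfsgLib.SuzSection
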